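import Cfsg.Agent.Lib.SF.GStr1
import Cfsg.Agent.Lib.Hall.Sh2b

/-! Goldschmidt's structure theorem for strongly closed abelian 2-subgroups. -/

set_option autoImplicit false
set_option linter.unusedSectionVars false

namespace Cfsg.Lib.SCl
open Subgroup Cfsg.Lib.Core Cfsg.Lib.BG1 Cfsg.Lib.Invol Cfsg.Lib.Layer Cfsg.Lib.Gold
open Cfsg.Lib.Amalg hiding le_cent_symm op_top
open Cfsg.Lib.GW hiding Ctx
open scoped Cfsg.Lib.Wal
open QuotientGroup (mk' mk'_surjective ker_mk')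

universe u

theorem sq_six {P : Type*} [Group P] {x y w : P} (h1 : y * y = y * w * (y * w)) (h2 : x * x = x * y * (x * y))
    (h3 : x * x = x * w * (x * w)) (h4 : x * x = x * (y * w) * (x * (y * w))) : w * w = 1 := by
  have k : ∀ u v : P, u * u = u * v * (u * v) → u⁻¹ * v * u = v⁻¹ := fun u v e => by
    have : u = v * u * v := mul_left_cancel (a := u) (by rw [e]; group)
    calc _ = u⁻¹ * (v * u * v) * v⁻¹ := by group
      _ = _ := by rw [← this]; group
  have e1 : (y * w)⁻¹ = y⁻¹ * w⁻¹ := by rw [← k _ _ h4, ← k _ _ h2, ← k _ _ h3]; group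
  have e2 : y * w = w * y := inv_injective (by rw [e1, mul_inv_rev])
  have e3 := k _ _ h1
  rw [mul_assoc, ← e2, inv_mul_cancel_left] at e3
  exact mul_eq_one_iff_eq_inv.2 e3

variable {G : Type u} [Group G] [Finite G] {C D : Set G} {S H L M N Q T U X Y : Subgroup G} {t x y z : G}

theorem noext {P : Type u} [Group P] [Finite P] {π : G →* P} (hπ : Function.Surjective π) (hk : π.ker = zpowers z)
    (h2 : orderOf z = 2) (hz : z ∈ center G) {Q : Subgroup P} (s : SP Q) (c : SC C) (z0 : z ∉ C)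
    (hC : ∀ y, y ∈ π '' C ↔ y * y = 1) (hg : KK C ⊤ = ⊤) : False := by
  have := fact_two
  have zz := mul_self_of_two h2
  have k1 : ∀ a b, π a = π b → a = b ∨ a = b * z := fun a b e => by
    have : b⁻¹ * a ∈ zpowers z := by rw [← hk, MonoidHom.mem_ker, map_mul, map_inv, e, inv_mul_cancel]
    exact (mem_zpowers_two' h2 this).imp (fun e => (inv_mul_eq_one.1 e).symm) fun e => by rw [← e]; group
  have k2 : ∀ a ∈ C, π a = 1 → a = 1 := fun a ha e =>
    (k1 a 1 (by rw [e, map_one])).resolve_right fun e => z0 (by rwa [e, one_mul] at ha)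
  have k3 : ∀ a b, π a = π b → a * a = b * b := fun a b e => by
    rcases k1 a b e with rfl | rfl
    · rfl
    · rw [(show Commute z b from (mem_center_iff.1 hz b).symm).mul_mul_mul_comm, zz, mul_one]
  set T := Q.comap π
  have hT : IsPGroup 2 T := s.syl.isPGroup.comap_of_ker_isPGroup π (hk ▸ (Two.of_two h2).isPGroup)
  have k4 : ∀ a ∈ C, a * a = 1 := fun a ha => k2 _ (c.mul_comm' ha ha (Commute.refl a)) (by
    rw [map_mul]; exact (hC _).1 ⟨a, ha, rfl⟩)
  have k5 : ∀ a ∈ C, a ∈ T → ∀ y ∈ T, Commute a y := fun a ha a1 y hy => by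
    have := k2 _ (c.mul T hT _ (c.conj a ha y) _ (c.inv ha) (mul_mem (mul_mem hy a1) (inv_mem hy)) (inv_mem a1)) (by
      simp only [map_mul, map_inv]
      rw [← (s.cen _ a1 ((hC _).1 ⟨a, ha, rfl⟩) _ hy).eq]; group)
    exact (mul_inv_eq_iff_eq_mul.1 (mul_inv_eq_one.1 this)).symm
  have zT : z ∈ T := by
    change π z ∈ Q
    rw [show π z = 1 from hk.ge (mem_zpowers z)]; exact one_mem _
  have := normal_subgroupOf_of_le_normalizer (c.nK T)
  let μ := mk' ((KK C T).subgroupOf T)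
  have hμ : ∀ a : T, μ a = 1 ↔ (a : G) ∈ C := fun a =>
    (QuotientGroup.eq_one_iff a).trans ⟨c.mem_of_KK hT, fun e => mem_KK e a.2⟩
  have k6 : ∀ x : T, μ x * μ x = 1 := fun x => by
    by_contra e
    rw [← map_mul, hμ] at e
    have k7 : ∀ u : T, (u * u : G) ∉ C → μ u * μ u = μ ⟨z, zT⟩ := fun u hu => by
      obtain ⟨a, ha, e⟩ := (hC (π u * π u)).2 (s.four _ u.2)
      rcases k1 _ _ ((map_mul π (u : G) u).trans e.symm) with e | e
      · exact absurd (e ▸ ha) hu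
      have a1 : a ∈ T := (mul_mem_cancel_right zT).1 (e ▸ mul_mem u.2 u.2)
      rw [← map_mul, show u * u = ⟨a, a1⟩ * ⟨z, zT⟩ from Subtype.ext e, map_mul, (hμ ⟨a, a1⟩).2 ha, one_mul]
    have k8 : ∀ u : T, Rl Q (π x) (π u) → μ u * μ u = μ ⟨z, zT⟩ := fun u ⟨h, v, v1, v2, e1⟩ => k7 u fun e2 => by
      obtain ⟨h, rfl⟩ := hπ h
      obtain ⟨v, hv, rfl⟩ := (hC v).2 v2
      have e3 : π u = π (v * (h * x * h⁻¹)) := by simpa using e1
      have e4 : h * x * h⁻¹ ∈ T := (mul_mem_cancel_left (show v ∈ T from v1)).1 (show π _ ∈ Q from e3 ▸ u.2)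
      rw [k3 _ _ e3, (k5 v hv v1 _ e4).symm.mul_mul_mul_comm, k4 v hv, one_mul, conj_mul] at e2
      exact e (c.conj' e2)
    obtain ⟨y, hy, w, hw, k9⟩ := s.tri (π x) x.2 fun e1 => by
      obtain ⟨a, ha, e2⟩ := (hC _).2 e1
      exact e (show (x * x : G) ∈ C by rw [← k3 _ _ e2, k4 a ha]; exact c.one)
    obtain ⟨y, rfl⟩ := hπ y
    obtain ⟨w, rfl⟩ := hπ w
    simp only [List.mem_cons, List.not_mem_nil, or_false, forall_eq_or_imp, forall_eq, ← map_mul] at k9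
    obtain ⟨a1, a2, a3, a4, a5, a6⟩ := k9
    have b0 := k7 x e
    have b1 := k8 ⟨y, hy⟩ a1
    have b2 := k8 ⟨w, hw⟩ a2
    have b3 := k8 (x * ⟨y, hy⟩) a3
    have b4 := k8 (x * ⟨w, hw⟩) a4
    have b5 := k8 (⟨y, hy⟩ * ⟨w, hw⟩) a5
    have b6 := k8 (x * (⟨y, hy⟩ * ⟨w, hw⟩)) a6
    simp only [map_mul] at b3 b4 b5 b6
    exact z0 ((hμ _).1 (b2.symm.trans (sq_six (b1.trans b5.symm) (b0.trans b3.symm) (b0.trans b4.symm) (b0.trans b6.symm))))
  have k7 : ∀ a : T ⧸ (KK C T).subgroupOf T, a * a = 1 := fun a => let ⟨x, e⟩ := mk'_surjective _ a; e ▸ k6 x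
  letI : CommGroup (T ⧸ (KK C T).subgroupOf T) := { (inferInstance : Group _) with
    mul_comm := fun a b => by
      rw [← inv_eq_of_mul_eq_one_left (k7 (a * b)), mul_inv_rev, inv_eq_of_mul_eq_one_left (k7 a), inv_eq_of_mul_eq_one_left (k7 b)] }
  have h3 : KK C ⊤ ≤ (MonoidHom.transfer μ).ker := KK_le_iff.2 fun a ha _ => by
    classical
    have := Fintype.ofFinite (Quotient (MulAction.orbitRel (zpowers a) (G ⧸ T)))
    rw [MonoidHom.mem_ker, MonoidHom.transfer_eq_prod_quotient_orbitRel_zpowers_quot]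
    exact Finset.prod_eq_one fun q _ => (hμ _).2 (by simpa using c.conj _ (c.pow ha _) _⁻¹)
  have h4 : MonoidHom.transfer μ z = 1 := h3 (hg.ge (mem_top z))
  rw [MonoidHom.transfer_eq_pow _ _ fun k g _ => by
    rw [mul_assoc, ← mem_center_iff.1 (pow_mem hz k) g, inv_mul_cancel_left], hμ] at h4
  obtain ⟨n, hn⟩ : Odd T.index := by
    rw [index_comap_of_surjective _ hπ, ← Nat.not_even_iff_odd, even_iff_two_dvd]; exact s.syl.not_dvd_index
  exact z0 (by simpa [hn, pow_succ, pow_mul, sq, zz] using h4)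

theorem split (hO : pPrimeCore 2 G = ⊥) (h2 : pCore 2 G = ⊥) (c : SC C) (h : CM C C) (hg : KK C ⊤ = ⊤) (hx : x ∈ C) (x1 : x ≠ 1) :
    ∃ L : Subgroup G, L.Normal ∧ IsSimpleGroup L ∧ ¬ IsMulCommutative L ∧ L ⊔ 𝐂(L) = ⊤ ∧ L ⊓ 𝐂(L) = ⊥ ∧ ∃ y ∈ C, y ∈ L ∧ y ≠ 1 := by
  obtain ⟨L, _, l1, l2, y, y0, y1, y2⟩ := exists_simple hO h2 c c h c (fun _ e => ⟨e, e⟩) (by rw [hg, sup_idem]) hx x1
  refine ⟨L, ‹_›, l1, l2, eq_top_iff.2 ((hg.ge.trans ((inner gld l1 l2 c c h ⟨y0, y0⟩ y1 y2).elim id id)).trans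
    (sup_le_sup_left (KK_le_iff.2 fun _ e _ => e.2) _)), ?_, y, y0, y1, y2⟩
  exact eq_bot_of_cent hO h2 (inf_le_right.trans (centralizer_le inf_le_left))

theorem exists_equiv_prod {A B : Subgroup G} (hc : B ≤ 𝐂(A)) (hi : A ⊓ B = ⊥) (hs : A ⊔ B = ⊤) :
    ∃ e : A × B ≃* G, ∀ x, e x = x.1 * x.2 := by
  let f : A × B →* G := A.subtype.noncommCoprod B.subtype fun a b => mem_centralizer_iff.mp (hc b.2) a a.2
  refine ⟨MulEquiv.ofBijective f ⟨(injective_iff_map_eq_one _).2 fun x hx => ?_, ?_⟩, fun _ => rfl⟩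
  · have h3 : (x.1 : G) * x.2 = 1 := hx
    have h4 : (x.1 : G) = 1 := mem_bot.1 (hi ▸ mem_inf.2 ⟨x.1.2, eq_inv_of_mul_eq_one_left h3 ▸ inv_mem x.2.2⟩)
    rw [h4, one_mul] at h3
    exact Prod.ext (Subtype.ext h4) (Subtype.ext h3)
  · rw [← MonoidHom.range_eq_top]
    exact (MonoidHom.noncommCoprod_range _ _ _).trans (by rw [range_subtype, range_subtype, hs])

theorem prod_opt {A : Type u} [gA : Group A] {ι : Type} (L : ι → Type u) [gL : ∀ i, Group (L i)] (p : ∀ (X : Type u) [Group X], Prop)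
    (hA : p A) (hL : ∀ i, p (L i)) :
    ∃ (K : Option ι → Type u) (_ : ∀ i, Group (K i)), (∀ i, p (K i)) ∧ Nonempty (A × (∀ i, L i) ≃* ∀ i, K i) := by
  let K : Option ι → Type u := fun o => match o with | none => A | some i => L i
  letI g : ∀ i, Group (K i) := fun o => match o with | none => gA | some i => gL i
  refine ⟨K, g, fun o => match o with | none => hA | some i => hL i,
    ⟨MulEquiv.symm { (Equiv.piOptionEquivProd (β := K)) with map_mul' := fun _ _ => rfl }⟩⟩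

/-- `G` is a direct product of simple Goldschmidt groups -/
def GP (G : Type u) [Group G] : Prop := ∃ (ι : Type) (_ : Fintype ι) (L : ι → Type u) (_ : ∀ i, Group (L i)),
  (∀ i, IsSimpleGroup (L i) ∧ ¬ IsMulCommutative (L i) ∧ IsGoldschmidtGroup (L i)) ∧ Nonempty (G ≃* ((i : ι) → L i))

theorem KK_map_top {P : Type u} [Group P] {f : G →* P} (hf : Function.Surjective f) (hg : KK C ⊤ = ⊤) : KK (f '' C) ⊤ = ⊤ := by
  rw [← KK_map, hg, map_top_of_surjective f hf]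

theorem base (n : ℕ) : ∀ (G : Type u) [Group G] [Finite G] (C : Set G), Nat.card G = n → pPrimeCore 2 G = ⊥ → pCore 2 G = ⊥ →
    SC C → CM C C → KK C ⊤ = ⊤ → (∀ y, y ∈ C ↔ y * y = 1) ∧ CP G ∧ GP G := by
  induction n using Nat.strong_induction_on with | _ n ih =>
  intro G _ _ C hn hO h2 c h hg
  by_cases h0 : ∀ x ∈ C, x = 1
  · have k : ∀ x : G, x = 1 := fun x => mem_bot.1 ((KK_le_iff.2 fun y hy _ => mem_bot.2 (h0 y hy)) (hg.ge (mem_top x)))
    have : Unique G := ⟨⟨1⟩, k⟩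
    exact ⟨fun y => ⟨fun _ => k _, fun _ => k y ▸ c.one⟩, fun x _ => ⟨1, 1, k _, Commute.one_right _, (k _).trans (k _).symm⟩,
      Empty, inferInstance, fun _ => G, fun _ => inferInstance, fun i => i.elim, ⟨MulEquiv.ofUnique⟩⟩
  push Not at h0
  obtain ⟨x, hx, x1⟩ := h0
  obtain ⟨L, _, l1, l2, l3, l4, y, y0, y1, y2⟩ := split hO h2 c h hg hx x1
  obtain ⟨e, he⟩ := exists_equiv_prod le_rfl l4 l3
  let f1 := (MonoidHom.fst L 𝐂(L)).comp e.symm.toMonoidHom
  let f2 := (MonoidHom.snd L 𝐂(L)).comp e.symm.toMonoidHom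
  have s1 : Function.Surjective f1 := Prod.fst_surjective.comp e.symm.surjective
  have s2 : Function.Surjective f2 := Prod.snd_surjective.comp e.symm.surjective
  have he' : ∀ x, x = f1 x * f2 x := fun x => (e.apply_symm_apply x).symm.trans (he _)
  obtain ⟨a1, a2, a3, -⟩ := simple_case l2 (c.comap L.subtype_injective) (h.comap _ L.subtype_injective) (x := ⟨y, y1⟩) y0
    fun e => y2 (congrArg Subtype.val e)
  obtain ⟨a4, -⟩ := simple_case l2 (c.map s1) (h.map c c f1) (Set.mem_image_of_mem f1 y0) fun e => by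
    have := he' y
    rw [e, OneMemClass.coe_one, one_mul] at this
    exact y2 (mem_bot.1 (l4.le ⟨y1, this ▸ (f2 y).2⟩))
  obtain ⟨b1, b2, ι, _, K, _, b3, ⟨b4⟩⟩ := ih _ (hn ▸ card_lt_of_ne_top fun e => y2 (mem_bot.1 (l4.le ⟨y1, e.ge trivial⟩))) 𝐂(L) _ rfl
    (pPrimeCore_eq_bot_of_normal hO _) (pCore_eq_bot_of_normal h2 _) (c.map s2) (h.map c c f2) (KK_map_top s2 hg)
  have cm : ∀ (a : L) (b : 𝐂(L)), Commute (a : G) b := fun a b => b.2 a a.2
  refine ⟨fun x => ⟨fun hx => e.symm.injective ?_, fun hx => ?_⟩, fun x hx => ?_, ?_⟩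
  · rw [map_mul, map_one]
    exact Prod.ext ((a4 _).1 (Set.mem_image_of_mem f1 hx)) ((b1 _).1 (Set.mem_image_of_mem f2 hx))
  · obtain ⟨z, hz, e1⟩ := (b1 (f2 x)).2 (by rw [← map_mul, hx, map_one])
    have h3 := c.mul_comm' (x := (f1 z : G)⁻¹) (c.inv ((a1 _).2 ((a4 _).1 (Set.mem_image_of_mem f1 hz)))) hz
      (by nth_rw 2 [he' z]; exact ((Commute.refl _).mul_right (cm _ _)).inv_left)
    rw [he' x]
    refine c.mul_comm' ((a1 (f1 x)).2 (by rw [← map_mul, hx, map_one])) ?_ (cm _ _)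
    nth_rw 2 [he' z] at h3
    simpa [e1] using h3
  · obtain ⟨y, g, c1, c2, c3⟩ := a3 (f1 x) (by rw [← map_mul, hx, map_one])
    obtain ⟨y', g', d1, d2, d3⟩ := b2 (f2 x) (by rw [← map_mul, hx, map_one])
    obtain ⟨x, rfl⟩ := e.surjective x
    have e1 : f1 (e x) = x.1 := congrArg Prod.fst (e.symm_apply_apply x)
    have e2 : f2 (e x) = x.2 := congrArg Prod.snd (e.symm_apply_apply x)
    rw [e1] at c2 c3
    rw [e2] at d2 d3
    refine ⟨e (y, y'), e (g, g'), ?_, Commute.map (show Commute x (y, y') from Prod.ext c2.eq d2.eq) e, ?_⟩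
    · rw [← map_mul, ← map_one e]; exact congrArg e (Prod.ext c1 d1)
    · rw [← map_inv, ← map_mul, ← map_mul, ← map_mul]; exact congrArg e (Prod.ext c3 d3)
  · obtain ⟨K', _, k1, ⟨k2⟩⟩ := prod_opt K (fun X _ => IsSimpleGroup X ∧ ¬ IsMulCommutative X ∧ IsGoldschmidtGroup X) ⟨l1, l2, a2⟩ b3
    exact ⟨Option ι, inferInstance, K', _, k1, ⟨e.symm.trans (((MulEquiv.refl _).prodCongr b4).trans k2)⟩⟩

theorem core_quot (hO : pPrimeCore 2 G = ⊥) [N.Normal] (hN : IsPGroup 2 N) (hc : N ≤ center G) : pPrimeCore 2 (G ⧸ N) = ⊥ := by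
  refine eq_bot_iff.2 fun a ha => ?_
  obtain ⟨a, rfl⟩ := mk'_surjective N a
  exact (QuotientGroup.eq_one_iff a).2 (core_comap_cent hO hN ⟨ha, fun b hb => (mem_center_iff.1 (hc hb) a).symm⟩)

theorem mem_core_of_quot [N.Normal] (hN : IsPGroup 2 N) (h : mk' N x ∈ pCore 2 (G ⧸ N)) : x ∈ pCore 2 G :=
  le_pCore ((isPGroup_pCore 2 _).comap_of_ker_isPGroup (mk' N) ((ker_mk' N).symm ▸ hN)) (mem_comap.2 h)

theorem nocent (n : ℕ) : ∀ (G : Type u) [Group G] [Finite G] (C : Set G), Nat.card G = n → pPrimeCore 2 G = ⊥ →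
    SC C → CM C C → KK C ⊤ = ⊤ → (∀ y ∈ C, y ∈ pCore 2 G → y = 1) → pCore 2 G = ⊥ := by
  induction n using Nat.strong_induction_on with | _ n ih =>
  intro G _ _ C hn hO c h hg h0
  have := fact_two
  by_contra h1
  have hZ : pCore 2 G ≤ center G := fun a ha => mem_center_iff.2 fun g => by
    refine (KK_le_iff (X := 𝐂[a])).2 (fun y hy _ => mem_centralizer_singleton_iff.2 ?_) (hg.ge (mem_top g)) a rfl |>.symm
    have h2 : y * (a * y⁻¹ * a⁻¹) ∈ pCore 2 G := by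
      simpa [mul_assoc] using mul_mem (Normal.conj_mem inferInstance a ha y) (inv_mem ha)
    have := h0 _ (c.mul _ (isPGroup_sup_of_le_normalizer' (isPGroup_pCore 2 G) (c.two y hy).isPGroup le_normalizer_of_normal) _ hy _
      (c.conj _ (c.inv hy) a) (mem_sup_right (mem_zpowers y)) (mul_mem (mul_mem (mem_sup_left ha) (mem_sup_right (inv_mem
        (mem_zpowers y)))) (mem_sup_left (inv_mem ha)))) h2
    calc y * a = y * (a * y⁻¹ * a⁻¹) * (a * y) := by group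
      _ = _ := by rw [this, one_mul]
  obtain ⟨z, hz, -, z2⟩ := exists_central_orderOf (isPGroup_pCore 2 G) le_rfl le_normalizer h1
  have z0 : z ∉ C := fun e => ne_one_of_two z2 (h0 z e hz)
  have hN := (zpowers_le.2 hz).trans hZ
  have : (zpowers z).Normal := ⟨fun a ha g => by rwa [mem_center_iff.1 (hN ha) g, mul_inv_cancel_right]⟩
  have q := (Two.of_two z2).isPGroup
  have s := mk'_surjective (zpowers z)
  have k0 : ∀ a, mk' (zpowers z) a = 1 → a = 1 ∨ a = z := fun a e => mem_zpowers_two' z2 ((QuotientGroup.eq_one_iff a).1 e)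
  have a1 := core_quot hO q hN
  have a2 := ih _ (hn ▸ card_quotient_lt (zpowers_ne_bot.2 (ne_one_of_two z2))) _ _ rfl a1 (c.map s) (h.map c c _) (KK_map_top s hg) (by
    rintro _ ⟨y, hy, rfl⟩ e
    rw [h0 y hy (mem_core_of_quot q e), map_one])
  obtain ⟨a3, -⟩ := base _ _ _ rfl a1 a2 (c.map s) (h.map c c _) (KK_map_top s hg)
  obtain ⟨x, hx, x1⟩ : ∃ x ∈ C, mk' (zpowers z) x ≠ 1 := by
    by_contra e
    push Not at e
    exact ne_one_of_two z2 (mem_bot.1 ((KK_le_iff.2 fun y hy _ => mem_bot.2 ((k0 y (e y hy)).resolve_right fun e => z0 (e ▸ hy)))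
      (hg.ge (mem_top z))))
  obtain ⟨L, _, l1, l2, l3, l4, y, y0, y1, y2⟩ := split a1 a2 (c.map s) (h.map c c _) (KK_map_top s hg) (Set.mem_image_of_mem _ hx) x1
  by_cases l5 : L = ⊤
  · subst l5
    have := topEquiv.symm.isSimpleGroup (H := (⊤ : Subgroup (G ⧸ zpowers z)))
    obtain ⟨-, -, -, Q, hQ⟩ := simple_case (fun e => l2 inferInstance) (c.map s) (h.map c c _) y0 y2
    exact noext s (ker_mk' _) z2 (hZ hz) hQ c z0 a3 hg
  have k : ∀ X : Subgroup (G ⧸ zpowers z), X.Normal → X ≠ ⊤ → z ∉ KK C (X.comap (mk' _)) := fun X _ hX e => by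
    have := c.normal' (X.comap (mk' (zpowers z)))
    have e1 := ih _ (hn ▸ card_lt_of_ne_top fun e => hX (eq_top_iff.2 fun a _ => by
        obtain ⟨a, rfl⟩ := s a
        exact KK_le C _ (e.ge (mem_top a)))) (KK C (X.comap (mk' (zpowers z)))) _ rfl (pPrimeCore_eq_bot_of_normal hO _)
      (c.comap (subtype_injective _)) (h.comap _ (subtype_injective _))
      (map_injective (subtype_injective _) (by
        rw [KK_sub, ← MonoidHom.range_eq_map, range_subtype]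
        exact le_antisymm (KK_le _ _) (KK_le_iff.2 fun a b d => mem_KK b (mem_KK b d))))
      fun a ha e => Subtype.ext (h0 a ha (map_subtype_pCore_le _ (mem_map_of_mem _ e)))
    refine ne_one_of_two z2 (congrArg Subtype.val (mem_bot.1 (e1.le (show (⟨z, e⟩ : KK C _) ∈ _ from ?_))))
    rw [← pCore_subgroupOf_eq]; exact hz
  have := c.normal' (L.comap (mk' (zpowers z)))
  have k1 : ∀ a ∈ L, a ∈ 𝐂(L) → a = 1 := fun a b d => mem_bot.1 (l4.le ⟨b, d⟩)
  have k2 : KK C ⊤ ≤ KK C (L.comap (mk' _)) ⊔ KK C (𝐂(L).comap (mk' _)) := KK_le_iff.2 fun a ha _ => by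
    obtain ⟨l, hl, m, hm, e⟩ := mem_sup_of_normal_left.1 (l3.ge (mem_top (mk' _ a)))
    have c1 : Commute l m := hm l hl
    have e1 : l * l * (m * m) = 1 := by rw [← c1.symm.mul_mul_mul_comm, e]; exact (a3 _).1 (Set.mem_image_of_mem _ ha)
    have e2 := k1 _ (mul_mem hl hl) (eq_inv_of_mul_eq_one_left e1 ▸ inv_mem (mul_mem hm hm))
    rw [e2, one_mul] at e1
    have q1 := (isPGroup_sup_of_le_normalizer' (Two.isPGroup ⟨1, by simpa [sq] using e2⟩) (Two.isPGroup ⟨1, by simpa [sq] using e1⟩)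
      (zpowers_le.2 (mem_norm_of_comm c1.symm))).comap_of_ker_isPGroup (mk' _) ((ker_mk' (zpowers z)).symm ▸ q)
    obtain ⟨l, l0, rfl⟩ := (a3 l).2 e2
    obtain ⟨m, m0, rfl⟩ := (a3 m).2 e1
    have m1 := mem_comap.2 (mem_sup_left (T := zpowers (mk' _ m)) (mem_zpowers (mk' (zpowers z) l)))
    have m2 := mem_comap.2 (mem_sup_right (S := zpowers (mk' _ l)) (mem_zpowers (mk' (zpowers z) m)))
    rcases k0 ((l * m)⁻¹ * a) (by rw [map_mul, map_inv, map_mul, e, inv_mul_cancel]) with e3 | e3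
    · rw [← inv_mul_eq_one.1 e3]; exact mul_mem (mem_sup_left (mem_KK l0 hl)) (mem_sup_right (mem_KK m0 hm))
    · exact absurd (e3 ▸ c.mul _ q1 _ (c.inv (c.mul _ q1 _ l0 _ m0 m1 m2)) _ ha (inv_mem (mul_mem m1 m2))
        (mem_comap.2 (e ▸ mul_mem (mem_comap.1 m1) (mem_comap.1 m2)))) z0
  obtain ⟨l, hl, m, hm, e⟩ := mem_sup_of_normal_left.1 (k2 (hg.ge (mem_top z)))
  have e1 : mk' (zpowers z) l * mk' _ m = 1 := by rw [← map_mul, e]; exact (QuotientGroup.eq_one_iff z).2 (mem_zpowers z)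
  rcases k0 l (k1 _ (mem_comap.1 (KK_le _ _ hl)) (eq_inv_of_mul_eq_one_left e1 ▸ inv_mem (mem_comap.1 (KK_le _ _ hm)))) with rfl | rfl
  · obtain rfl := (one_mul m).symm.trans e
    exact k _ inferInstance (fun e => y2 (k1 y y1 (e.ge trivial))) hm
  · exact k L ‹_› l5 hl

/-- Goldschmidt's theorem on strongly closed abelian 2-subgroups, structural form -/
theorem gstr (hO : pPrimeCore 2 G = ⊥) (c : SC C) (h : CM C C) (hg : KK C ⊤ = ⊤) :
    pCore 2 G ⊔ commutator G = ⊤ ∧ pCore 2 G ≤ center G ∧ (∀ x ∈ pCore 2 G, x ∈ C) ∧ (∀ x, x * x = 1 → x ∈ C) ∧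
      (∀ x ∈ C, ∃ a ∈ pCore 2 G, ∃ w, w * w = 1 ∧ x = a * w) ∧ GP (commutator G ⧸ center (commutator G)) := by
  have := fact_two
  have := c.normal' (pCore 2 G)
  set A := KK C (pCore 2 G)
  have q : IsPGroup 2 A := (isPGroup_pCore 2 G).to_le (KK_le _ _)
  have hA : ∀ a ∈ A, a ∈ C := fun a => c.mem_of_KK (isPGroup_pCore 2 G)
  have hZ : A ≤ center G := fun a ha => mem_center_iff.2 fun g =>
    (KK_le_iff (X := 𝐂[a])).2 (fun y hy _ => mem_centralizer_singleton_iff.2 (h _ (isPGroup_sup_of_le_normalizer' q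
      (c.two y hy).isPGroup le_normalizer_of_normal) y hy a (hA a ha) (mem_sup_right (mem_zpowers y)) (mem_sup_left ha)).eq)
        (hg.ge (mem_top g)) a rfl |>.symm
  have s := mk'_surjective A
  have a1 := core_quot hO q hZ
  have a2 := nocent _ _ _ rfl a1 (c.map s) (h.map c c _) (KK_map_top s hg) (by
    rintro _ ⟨y, hy, rfl⟩ e
    exact (QuotientGroup.eq_one_iff y).2 (mem_KK hy (mem_core_of_quot q e)))
  have e : pCore 2 G = A := le_antisymm (fun a ha => (QuotientGroup.eq_one_iff a).1 (mem_bot.1 (a2.le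
    (map_pCore_le_of_surjective s (mem_map_of_mem _ ha))))) (KK_le _ _)
  obtain ⟨a3, a4, ι, _, L, _, a5, ⟨a6⟩⟩ := base _ _ _ rfl a1 a2 (c.map s) (h.map c c _) (KK_map_top s hg)
  have k0 : ∀ a b, mk' A a = mk' A b → a * b⁻¹ ∈ A := fun a b e =>
    (QuotientGroup.eq_one_iff _).1 (show mk' A _ = 1 by rw [map_mul, map_inv, e, mul_inv_cancel])
  have k : ∀ x ∈ C, ∃ a ∈ A, ∃ w ∈ commutator G, w * w = 1 ∧ x = a * w := fun x hx => by
    have e0 := (a3 _).1 (Set.mem_image_of_mem _ hx)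
    obtain ⟨y, g, e1, e2, e3⟩ := a4 _ e0
    have q1 := (isPGroup_sup_of_le_normalizer' (Two.isPGroup ⟨1, by simpa [sq] using e0⟩) (Two.isPGroup ⟨1, by simpa [sq] using e1⟩)
      (zpowers_le.2 (mem_norm_of_comm e2.symm))).comap_of_ker_isPGroup (mk' _) ((ker_mk' A).symm ▸ q)
    obtain ⟨y, hy, rfl⟩ := (a3 y).2 e1
    obtain ⟨g, rfl⟩ := s g
    have m1 := mem_sup_left (T := zpowers (mk' _ y)) (mem_zpowers (mk' A x))
    have m2 := mem_sup_right (S := zpowers (mk' _ x)) (mem_zpowers (mk' A y))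
    have e4 := h _ q1 _ (c.conj y hy g) _ (c.inv hy) (mem_comap.2 (by
      rw [map_mul, map_mul, map_inv, ← e3]; exact mul_mem m1 m2)) (inv_mem (mem_comap.2 m2))
    have e5 : y * y ∈ A := (QuotientGroup.eq_one_iff _).1 (show mk' A _ = 1 by rw [map_mul, e1])
    refine ⟨_, k0 x (g * y * g⁻¹ * y⁻¹) (by simp only [map_mul, map_inv]; rw [← e3, mul_inv_cancel_right]), _,
      commutator_mem_commutator (mem_top g) (mem_top y), ?_, (inv_mul_cancel_right _ _).symm⟩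
    rw [commutatorElement_def, e4.symm.mul_mul_mul_comm, conj_mul, mem_center_iff.1 (hZ e5) g]; group
  have hs : A ⊔ commutator G = ⊤ := eq_top_iff.2 (hg.ge.trans (KK_le_iff.2 fun x hx _ =>
    let ⟨_, ha, _, hw, _, e⟩ := k x hx; e ▸ mul_mem (mem_sup_left ha) (mem_sup_right hw)))
  rw [e]
  refine ⟨hs, hZ, hA, fun x hx => ?_, fun x hx => let ⟨a, ha, w, _, e⟩ := k x hx; ⟨a, ha, w, e⟩, ι, ‹_›, L, ‹_›, a5, ?_⟩
  · obtain ⟨y, hy, e⟩ := (a3 (mk' A x)).2 (by rw [← map_mul, hx, map_one])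
    have := k0 _ _ e.symm
    simpa using c.mul_comm' (hA _ this) hy (mem_center_iff.1 (hZ this) y).symm
  let f := (mk' A).comp (commutator G).subtype
  have f1 : Function.Surjective f := fun x => by
    obtain ⟨x, rfl⟩ := s x
    obtain ⟨a, ha, w, hw, rfl⟩ := mem_sup_of_normal_left.1 (hs.ge (mem_top x))
    exact ⟨⟨w, hw⟩, by rw [map_mul, show mk' A a = 1 from (QuotientGroup.eq_one_iff a).2 ha, one_mul]; rfl⟩
  have f2 : center (commutator G) = f.ker := le_antisymm (fun x hx => mem_bot.1 ((eq_bot_of_cent (N := center _) a1 a2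
    (center_le_centralizer _)).le (mem_center_iff.2 fun g => by
      obtain ⟨g, rfl⟩ := f1 g
      rw [← map_mul, mem_center_iff.1 hx g, map_mul])))
    fun x hx => mem_center_iff.2 fun g => Subtype.ext (mem_center_iff.1 (hZ ((QuotientGroup.eq_one_iff _).1 hx)) g)
  exact ⟨(QuotientGroup.quotientMulEquivOfEq f2).trans ((QuotientGroup.quotientKerEquivOfSurjective f f1).trans a6)⟩

theorem gstr' {A K : Subgroup G} (hS : Syl 2 S ⊤) (hA : IsMulCommutative A) (hsc : IsStronglyClosed A S)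
    (hK : K = normalClosure (A : Set G)) {P : Type u} [Group P] (π : K →* P) (hπ : Function.Surjective π)
    (hker : π.ker = pPrimeCore 2 K) : pCore 2 P ⊔ commutator P = ⊤ ∧ pCore 2 P ≤ center P ∧
      (∃ T : Sylow 2 P, (A.subgroupOf K).map π ≤ (T : Subgroup P) ∧ (A.subgroupOf K).map π = pCore 2 P ⊔ omegaOne 2 (T : Subgroup P)) ∧
      GP (commutator P ⧸ center (commutator P)) := by
  have := fact_two
  have := Finite.of_surjective π hπ
  have : K.Normal := hK ▸ inferInstance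
  have c := sc_cls hS hsc
  have c1 := c.comap K.subtype_injective
  have h1 := (cm_cls hS hsc hsc fun a ha b hb => PGrp.comm_of_mem hA ha hb).comap _ K.subtype_injective
  have hk : (Nat.card π.ker).Coprime 2 := hker ▸ coprime_card_pPrimeCore 2 K
  obtain ⟨a1, a2, a3, a4, a5, a6⟩ := gstr (by rw [← map_pPrimeCore_of_surjective hπ hk, ← hker, Subgroup.map_eq_bot_iff]) (c1.map hπ)
    (h1.map c1 c1 π) (KK_map_top hπ (map_injective K.subtype_injective (by
      rw [KK_sub, ← MonoidHom.range_eq_map, range_subtype]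
      refine le_antisymm (KK_le _ _) (hK.le.trans ((KK_cls A).ge.trans (KK_le_iff.2 fun a b _ => mem_KK b ?_)))
      exact hK.ge ((KK_cls A).le (mem_KK b trivial)))))
  have hR := (hS.inf_normal (N := K) le_top le_normalizer_of_normal).subgroupOf_top
  have hT := hR.map π
  rw [map_top_of_surjective π hπ] at hT
  have b1 : (A.subgroupOf K).map π ≤ ((S ⊓ K).subgroupOf K).map π := map_mono fun a ha => ⟨hsc.1 ha, a.2⟩
  have b2 : ∀ x ∈ π '' (K.subtype ⁻¹' cls A), x ∈ ((S ⊓ K).subgroupOf K).map π → x ∈ (A.subgroupOf K).map π := by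
    rintro _ ⟨x, hx, rfl⟩ ⟨s, hs, e⟩
    obtain ⟨m, -, m2⟩ := hR.exists_conj_le (c1.two x hx).isPGroup le_top
    obtain ⟨U, hU, h2⟩ := exists_syl_ge (p := 2) (H := (((S ⊓ K).subgroupOf K).map π).comap π) hR.isPGroup (le_comap_map _ _)
    obtain rfl := hR.eq_of_le U h2 le_top hU.isPGroup
    obtain ⟨n, n1, n2⟩ := hU.exists_conj_le (c1.two x hx).isPGroup (zpowers_le.2 ⟨s, hs, e⟩)
    obtain ⟨w, w1, e1⟩ := n1
    have n3 := n2 (conj_mem_cj n (mem_zpowers x))
    refine ⟨w⁻¹ * (n * x * n⁻¹) * w, ?_, by simp [e1, mul_assoc]⟩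
    refine mem_subgroupOf.2 (mem_of_cls' hsc ?_ (mul_mem (mul_mem (inv_mem w1) n3) w1).1)
    simpa using c.conj _ (c1.conj x hx n) (w : G)⁻¹
  refine ⟨a1, a2, ⟨hT.toSylowTop, b1, le_antisymm ?_ (sup_le (fun a ha => b2 a (a3 a ha) (pCore_le_sylow hT.toSylowTop ha))
    ((closure_le _).2 fun a ha => b2 a (a4 a (by rw [← sq]; exact ha.2)) ha.1))⟩, a6⟩
  rintro _ ⟨a, ha, rfl⟩
  obtain ⟨b, hb, w, hw, e⟩ := a5 _ ⟨a, mem_cls ha, rfl⟩
  refine e ▸ mul_mem (mem_sup_left hb) (mem_sup_right (subset_closure ⟨?_, by rwa [sq]⟩))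
  exact (mul_mem_cancel_left (pCore_le_sylow hT.toSylowTop hb)).1 (e ▸ b1 ⟨a, ha, rfl⟩)

end Cfsg.Lib.SCl
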