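import Cfsg.Agent.Lib.SCl.Prod
import Cfsg.Agent.Lib.SF.JT
import Cfsg.Agent.S0204

/-! Goldschmidt's structure theorem for strongly closed abelian 2-subgroups: the simple case. -/

set_option autoImplicit false
set_option linter.unusedSectionVars false

namespace Cfsg.Lib.SCl
open Subgroup Cfsg.Lib.Core Cfsg.Lib.BG1 Cfsg.Lib.Invol Cfsg.Lib.Layer Cfsg.Lib.Gold
open Cfsg.Lib.Amalg hiding le_cent_symm op_top
open Cfsg.Lib.GW hiding Ctx
open scoped Cfsg.Lib.Wal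
open Cfsg.Lib.BS (RO R2 Q0g Wg Kg Dg Vg C3 Q0g_le mem_Q0g_of Wg_le Kg_le)

universe u

@[to_additive exists_avoid_add]
theorem exists_avoid {G : Type*} [Group G] [Finite G] (U V : Subgroup G) (s : List G) (h : s.length * Nat.card V < Nat.card U) :
    ∃ w ∈ U, ∀ a ∈ s, a * w ∉ V := by
  by_contra e
  push Not at e
  choose f h1 h2 using e
  choose n hn using fun (w : U) => List.mem_iff_get.1 (h1 w w.2)
  have := Nat.card_le_card_of_injective (fun w : U => ((n w, ⟨_, h2 w w.2⟩) : Fin s.length × V)) fun a b e => by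
    obtain ⟨e1, e2⟩ := Prod.mk.inj e
    have e3 : f a a.2 = f b b.2 := by rw [← hn a, ← hn b, e1]
    have e4 := congrArg Subtype.val e2
    dsimp only at e4
    rw [e3] at e4
    exact Subtype.ext (mul_left_cancel e4)
  rw [Nat.card_prod, Nat.card_fin] at this
  omega

variable {G : Type u} [Group G] [Finite G] {C D : Set G} {S H L Q T U X Y : Subgroup G} {t x y z : G}

/-- `u` is conjugate to `x` modulo the involutions of `Q` -/
def Rl (Q : Subgroup G) (x u : G) : Prop := ∃ h v, v ∈ Q ∧ v * v = 1 ∧ u = v * (h * x * h⁻¹)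

/-- the properties of a Sylow 2-subgroup of a Goldschmidt group which are used -/
structure SP (Q : Subgroup G) : Prop where
  syl : Syl 2 Q ⊤
  four : ∀ x ∈ Q, x * x * (x * x) = 1
  cen : ∀ v ∈ Q, v * v = 1 → ∀ y ∈ Q, Commute v y
  tri : ∀ x ∈ Q, x * x ≠ 1 → ∃ y ∈ Q, ∃ w ∈ Q, ∀ u ∈ [y, w, x * y, x * w, y * w, x * (y * w)], Rl Q x u

theorem ro_syl' [IsSimpleGroup G] (h : RO H Q t) (h2 : R2 (⊤ : Subgroup G)) : Syl 2 Q ⊤ :=
  let ⟨P, hP⟩ := h.exists_sylow_le; (syl_top P).eq_of_le Q hP le_top (h.good' h2).two ▸ syl_top P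

theorem sp_aux (hc : 4 * Nat.card (Q0g Q) < Nat.card Q) (hx : x ∈ Q)
    (k : ∀ u ∈ Q, u ∉ Q0g Q → Rl Q x u) :
    ∃ y ∈ Q, ∃ w ∈ Q, ∀ u ∈ [y, w, x * y, x * w, y * w, x * (y * w)], Rl Q x u := by
  obtain ⟨y, hy, h3⟩ := exists_avoid Q (Q0g Q) [1, x] (by simp only [List.length_cons, List.length_nil]; omega)
  obtain ⟨w, hw, h4⟩ := exists_avoid Q (Q0g Q) [1, x, y, x * y] (by simpa using hc)
  simp only [List.mem_cons, List.not_mem_nil, or_false, forall_eq_or_imp, forall_eq, one_mul, mul_assoc] at h3 h4 ⊢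
  exact ⟨y, hy, w, hw, k _ hy h3.1, k _ hw h4.1, k _ (mul_mem hx hy) h3.2, k _ (mul_mem hx hw) h4.2.1,
    k _ (mul_mem hy hw) h4.2.2.1, k _ (mul_mem hx (mul_mem hy hw)) h4.2.2.2⟩

theorem sp_of_ro [IsSimpleGroup G] (h : RO H Q t) (h2 : R2 (⊤ : Subgroup G)) : SP Q := by
  refine ⟨ro_syl' h h2, (h.good' h2).four, fun v hv e y hy => h.commute_Q0 h2 (mem_Q0g_of hv e) hy, fun x hx x1 => ?_⟩
  have x2 : x ∉ Q0g Q := fun e => x1 (h.sq_Q0 h2 e)
  have rl : ∀ g u, g * x * g⁻¹ * u⁻¹ ∈ Q0g Q → Rl Q x u := fun g u e =>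
    ⟨g, _, Q0g_le Q (inv_mem e), h.sq_Q0 h2 (inv_mem e), by group⟩
  rcases h.tri3 h2 with ⟨-, e | ⟨-, h6, m, hm, h7⟩⟩ | ⟨s, c, -, hW⟩
  · exact absurd (e.ge hx) x2
  · refine sp_aux (by
      have : 2 ^ 3 ≤ Nat.card (Q0g Q) := h7 ▸ Nat.pow_le_pow_right two_pos (by omega)
      rw [h6]; nlinarith) hx fun u hu u1 => ?_
    obtain ⟨s, r, hs⟩ := h.exists_SE
    have sq : ∀ x ∈ Q, x ∉ Q0g Q → ∃ k ∈ H, k * x * k⁻¹ * (k * x * k⁻¹) = s := fun x hx e => by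
      obtain ⟨k, hk, e⟩ := h.exists_K' (h.two_V h2 (h.sq_mem h2 hx) fun e' => e (mem_Q0g_of hx e')) (h.le (mul_mem hx hx)) hs.two hs.mem
      exact ⟨k, (Kg_le H t hk).1, by rw [conj_mul, e]⟩
    obtain ⟨k, hk, e1⟩ := sq x hx x2
    obtain ⟨l, hl, e2⟩ := sq u hu u1
    obtain ⟨v, hv, e⟩ := surj_of_inj_of_card_le (p := (· ∈ Q0g Q)) (q := fun y => y ∈ Q ∧ y * y = s) (· * (k * x * k⁻¹))
      (fun v hv => ⟨mul_mem (Q0g_le Q hv) (h.conj_Q hk hx), by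
        rw [(h.commute_Q0 h2 hv (h.conj_Q hk hx)).symm.mul_mul_mul_comm, h.sq_Q0 h2 hv, one_mul, e1]⟩)
      (fun _ _ _ _ e => mul_right_cancel e) (h.card_root_two h2 hs le_rfl (Q0g_le Q)
        (((Kg_le H t).trans inf_le_left).trans h.norm) (fun x hx => h.sq_mem h2 hx) h6).le _ ⟨h.conj_Q hl hu, e2⟩
    refine ⟨l⁻¹ * k, l⁻¹ * v * l, Q0g_le Q (h.conj_V' hl hv), h.sq_Q0 h2 (h.conj_V' hl hv), ?_⟩
    calc u = l⁻¹ * (l * u * l⁻¹) * l := by group
      _ = _ := by rw [← e]; group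
  obtain ⟨n, hn, h7⟩ := h.exists_card_Q0 h2
  rcases hn.eq_or_lt with rfl | hn
  · refine sp_aux (by rw [c.card, h7]; norm_num) hx fun u hu u1 => ?_
    obtain ⟨k, -, w, -, e⟩ := c.tr hW h7 hx x2 hu u1
    exact rl _ _ e
  obtain ⟨w, hw, w1⟩ := (Wg H Q t).bot_or_exists_ne_one.resolve_left hW
  obtain ⟨E, _, _, _, ρ, ψ, β, e⟩ := c.exists_E (zpowers_le.2 hw) (zpowers_ne_bot.2 w1)
  let F : AddSubgroup E := (β : E →+* E).toAddMonoidHom.eqLocus (AddMonoidHom.id E)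
  have hF : 2 ^ 3 ≤ Nat.card F := (Nat.pow_le_pow_right two_pos hn).trans (h7.symm.trans e.conj.card_fixed.symm).le
  obtain ⟨a, ha, h3⟩ := exists_avoid_add F ⊥ [0, 1] (by simp only [List.length_cons, List.length_nil, AddSubgroup.card_bot]; omega)
  obtain ⟨b, hb, h4⟩ := exists_avoid_add F ⊥ [0, 1, a, 1 + a]
    (by simp only [List.length_cons, List.length_nil, AddSubgroup.card_bot]; omega)
  have h1 : (1 : E) ∈ F := map_one (β : E →+* E)
  have k : ∀ u ∈ Q, ∀ c ∈ F, c ≠ 0 → ρ u = c * ρ x → Rl Q x u := fun u hu c hc c0 e1 => by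
    obtain ⟨k, hk, rfl⟩ := e.surjK c c0 hc
    have h5 := h.conj_Q (Kg_le H t hk).1 hx
    refine rl k u ?_
    rw [← e.sec.ker _ (mul_mem h5 (inv_mem hu)), e.sec.add _ h5 _ (inv_mem hu), e.sec.inv hu, e1,
      e.sec.conj _ (mem_sup_left hk) _ hx, add_neg_cancel]
  obtain ⟨y, hy, e1⟩ := e.sec.surj (a * ρ x)
  obtain ⟨w, hw, e2⟩ := e.sec.surj (b * ρ x)
  simp only [List.mem_cons, List.not_mem_nil, or_false, forall_eq_or_imp, forall_eq, zero_add, AddSubgroup.mem_bot] at h3 h4 ⊢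
  exact ⟨y, hy, w, hw, k _ hy a ha h3.1 e1, k _ hw b hb h4.1 e2,
    k _ (mul_mem hx hy) _ (add_mem h1 ha) h3.2 (by rw [e.sec.add _ hx _ hy, e1]; ring),
    k _ (mul_mem hx hw) _ (add_mem h1 hb) h4.2.1 (by rw [e.sec.add _ hx _ hw, e2]; ring),
    k _ (mul_mem hy hw) _ (add_mem ha hb) h4.2.2.1 (by rw [e.sec.add _ hy _ hw, e1, e2]; ring),
    k _ (mul_mem hx (mul_mem hy hw)) _ (add_mem (add_mem h1 ha) hb) h4.2.2.2
      (by rw [e.sec.add _ hx _ (mul_mem hy hw), e.sec.add _ hy _ hw, e1, e2]; ring)⟩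

theorem gold_of_gld [IsSimpleGroup G] (hc : ¬ IsMulCommutative G) (hS : Syl 2 S ⊤)
    (h : IsMulCommutative S ∨ ∃ H : Subgroup G, IsStronglyEmbedded H) : IsGoldschmidtGroup G := by
  have key : Gold.IsL2e G → IsGoldschmidtGroup G := fun ⟨F, _, _, ⟨n, h1, h2⟩, ⟨e⟩⟩ => by
    rcases h1.eq_or_lt with rfl | h1
    · obtain ⟨a⟩ := Linear.psl2_four_equiv (F := F) (by rw [Nat.card_eq_fintype_card, h2]; rfl)
      have := Fact.mk Nat.prime_five
      obtain ⟨b⟩ := Linear.psl2_five_equiv (F := ZMod 5) (Nat.card_zmod 5)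
      exact Or.inr (Or.inr (Or.inr (Or.inr (Or.inl ⟨ZMod 5, _, _, 5, ZMod.card 5, le_rfl, Or.inr rfl,
        ⟨e.trans (a.trans b.symm)⟩⟩))))
    · exact Or.inr (Or.inl ⟨F, _, _, n, h1, h2, ⟨e⟩⟩)
  rcases h with h | ⟨H, hH⟩
  · rcases Wal.walter hc hS h with ⟨F, _, _, h1, h2, e⟩ | h | ⟨t, E, K, h⟩
    · exact Or.inr (Or.inr (Or.inr (Or.inr (Or.inl ⟨F, _, _, _, rfl, h2, h1, e⟩))))
    · exact key h
    · exact (SF.jrt G _ t E K h).imp_right fun h => Or.inr (Or.inr (Or.inr (Or.inr h)))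
  rcases BS.bro.bender hH with h | h | ⟨F, _, _, n, h1, h2, e⟩
  · exact key h
  · exact Or.inr (Or.inr (Or.inl h))
  · exact Or.inr (Or.inr (Or.inr (Or.inl ⟨F, _, _, n, h1, by rw [h2, ← pow_mul, mul_comm, pow_mul]; rfl, e⟩)))

/-- every involution is a commutator of a special kind -/
def CP (G : Type*) [Group G] : Prop := ∀ x : G, x * x = 1 → ∃ y g : G, y * y = 1 ∧ Commute x y ∧ x * y = g * y * g⁻¹

theorem simple_case [IsSimpleGroup G] (hn : ¬ IsMulCommutative G) (c : SC C) (h : CM C C) (hx : x ∈ C) (x1 : x ≠ 1) :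
    (∀ y, y ∈ C ↔ y * y = 1) ∧ IsGoldschmidtGroup G ∧ CP G ∧ ∃ Q : Subgroup G, SP Q := by
  obtain ⟨T, hT, h1⟩ := exists_syl_ge (c.two x hx).isPGroup le_top
  have g := c.gld gld hT hx (h1 (mem_zpowers x)) x1 fun a a0 a1 _ b b0 b1 _ => h T hT.isPGroup a a0 b b0 a1 b1
  have h4 : ∀ y : G, y * y = 1 → y ∈ C := fun y hy => by
    by_cases y1 : y = 1
    · exact y1 ▸ c.one
    obtain ⟨z, z0, -, z2, -⟩ := c.exists_cen hT.isPGroup hx (h1 (mem_zpowers x)) x1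
    obtain ⟨g, rfl⟩ := isConj_iff.1 (one_class hn hT g z2 (two_of_mul_self hy y1))
    exact c.conj z z0 g
  have h5 : CP G := fun x hx => by
    by_cases x1 : x = 1
    · exact ⟨1, 1, by simp, by simp, by simp [x1]⟩
    obtain ⟨E, hE⟩ := Agent.S0204.result (G := G) fun e => hn inferInstance
    obtain ⟨a, ha, a1, -⟩ := klein_exists_ne hE 1
    obtain ⟨b, hb, b1, b2⟩ := klein_exists_ne hE a
    obtain ⟨l, rfl⟩ := isConj_iff.1 (one_class hn hT g (klein_two hE ha a1) (two_of_mul_self hx x1))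
    have h6 : a * b ≠ 1 := fun e => b2 (by rw [eq_inv_of_mul_eq_one_right e, inv_eq_of_mul_eq_one_left (klein_mul_self hE ha)])
    obtain ⟨k, e⟩ := isConj_iff.1 (one_class hn hT g (klein_two hE hb b1) (klein_two hE (mul_mem ha hb) h6))
    exact ⟨l * b * l⁻¹, l * k * l⁻¹, by rw [conj_mul, klein_mul_self hE hb]; simp, commute_conj l (klein_commute hE ha hb),
      by rw [conj_mul, ← e]; group⟩
  refine ⟨fun y => ⟨fun hy => ?_, h4 y⟩, gold_of_gld hn hT g, h5, ?_⟩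
  · rcases g with g | ⟨H, hH⟩
    · exact (Wal.gd_of_comm hn hT g).el _ (c.two y hy)
    obtain ⟨Q, t, r, r2, -⟩ := ro_of_se hH (core_of_simple hn)
    have q := (r.good' r2).two
    have h6 := le_KK (C := C) (fun v hv => h4 v (r.sq_Q0 r2 hv)) (Q0g_le Q)
    have h7 := (ro_pair r r2 (KK_le C Q) (KK_le C Q) h6 h6 (c.norm_KK r.norm) (c.norm_KK r.norm) fun a ha b hb =>
      h Q q a (c.mem_of_KK q ha) b (c.mem_of_KK q hb) (KK_le _ _ ha) (KK_le _ _ hb)).elim id id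
    obtain ⟨g, -, e⟩ := (ro_syl' r r2).exists_conj_le (c.two y hy).isPGroup le_top
    have := r.sq_Q0 r2 (h7 (mem_KK (c.conj y hy g) (e (conj_mem_cj g (mem_zpowers y)))))
    rwa [conj_mul, conj_eq_one_iff] at this
  · rcases g with g | ⟨H, hH⟩
    · have k : ∀ x ∈ T, x * x = 1 := fun x hx => (Wal.gd_of_comm hn hT g).el _ (Two.of_mem hT.isPGroup hx)
      exact ⟨T, hT, fun x hx => by rw [k x hx, one_mul], fun v hv _ y hy => PGrp.comm_of_mem g hv hy, fun x hx e => absurd (k x hx) e⟩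
    obtain ⟨Q, t, r, r2, -⟩ := ro_of_se hH (core_of_simple hn)
    exact ⟨Q, sp_of_ro r r2⟩

end Cfsg.Lib.SCl
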