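import Cfsg.Agent.Lib.SF.Cor
import Cfsg.Agent.Lib.Linear.OutPSL
import Cfsg.Agent.S4593
import Cfsg.Agent.S2065

/-!
# Automorphisms of `PSL₂(q)` centralizing a Sylow subgroup
-/

set_option autoImplicit false

namespace Cfsg.Lib.SF

open Subgroup Cfsg.Lib.Core Cfsg.Lib.Amalg Cfsg.Lib.Linear Cfsg.Lib.Known Matrix

theorem dvd_index_arith {r a j c : ℕ} (hr : r.Prime) (ha : 1 < a) (hj : j ≠ 0)
    (h : a * (a - 1) * (a + 1) * c = a ^ r ^ j * (a ^ r ^ j - 1) * (a ^ r ^ j + 1)) (hd : r ∣ a * (a - 1) * (a + 1) * c) :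
    r ∣ c := by
  have := Fact.mk hr
  have h1 : ∀ b : ℕ, b * (b - 1) * (b + 1) = b * (b ^ 2 - 1) := fun b => by rw [Nat.sq_sub_sq b 1]; ring
  obtain ⟨m, hm⟩ : ∃ m, r ^ j = m + 2 := ⟨r ^ j - 2, by have := Nat.one_lt_pow hj hr.one_lt; omega⟩
  have h2 : c = a ^ (m + 1) * ∑ i ∈ Finset.range (r ^ j), (a ^ 2) ^ i := by
    refine Nat.eq_of_mul_eq_mul_left (show 0 < a * (a - 1) * (a + 1) by
      have : 0 < a - 1 := by omega
      positivity) ?_
    rw [h, h1, h1, ← pow_mul, mul_comm _ 2, pow_mul, ← geom_sum_mul_of_one_le (Nat.one_le_pow _ _ (by omega)), hm]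
    ring
  rw [h, h1, ← ZMod.natCast_eq_zero_iff, Nat.cast_mul, Nat.cast_sub (Nat.one_le_pow _ _ (by positivity))] at hd
  push_cast at hd
  rw [ZMod.pow_card_pow] at hd
  rw [h2, ← ZMod.natCast_eq_zero_iff]
  push_cast
  rcases mul_eq_zero.1 hd with e | e
  · simp [e]
  · simp [sub_eq_zero.1 e, hj]

variable {F : Type*} [Field F] [Finite F] {r k : ℕ} [hr : Fact r.Prime]

theorem field_eq_one (h2 : r ≠ 2) {σ : F ≃+* F} (hσ : σ ^ r ^ k = 1) {R : Subgroup (PSL2 F)} (hR : Syl r R ⊤)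
    (hd : r ∣ Nat.card (PSL2 F)) (h : ∀ x ∈ R, pslField _ F σ x = x) : σ = 1 := by
  by_contra h0
  obtain ⟨T, hT⟩ := exists_syl r (R.comap (QuotientGroup.mk' (center (SL2 F))))
  have h1 := hT.of_le_of_not_dvd le_top (by
    rw [relIndex_top_right, index_comap_of_surjective _ (QuotientGroup.mk'_surjective _)]; exact hR.not_dvd_index)
  let K := FixedPoints.subfield (zpowers σ) F
  let f : SL2 K →* SL2 F := SpecialLinearGroup.map K.subtype
  have h3 : T ≤ f.range := fun s hs => by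
    obtain ⟨m, hm⟩ := isPGroup_iff_mem.1 hT.isPGroup s hs
    have h4 : slField _ F σ s = s := by
      rcases psl2_mk_eq_mk_iff.1 ((pslField_mk σ s).symm.trans (h _ (hT.le hs))) with e | e
      · exact e.symm
      · have h5 := congrArg (· ^ r ^ m) e
        simp only [(hr.out.odd_of_ne_two h2).pow.neg_pow, ← map_pow, hm, map_one] at h5
        rw [← neg_one_mul, ← h5, one_mul] at e
        exact e.symm
    have h5 : ∀ i j, s.1 i j ∈ K := fun i j g => by
      have : zpowers σ ≤ MulAction.stabilizer (F ≃+* F) (s.1 i j) :=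
        zpowers_le.2 (congrArg (fun x : SL2 F => x.1 i j) h4)
      exact this g.2
    refine ⟨⟨Matrix.of fun i j => ⟨s.1 i j, h5 i j⟩, K.subtype.injective ?_⟩, rfl⟩
    rw [RingHom.map_det, map_one]; exact s.2
  obtain ⟨j, -, hj⟩ := (Nat.dvd_prime_pow hr.out).1 (orderOf_dvd_of_pow_eq_one hσ)
  have h4 : Nat.card F = Nat.card K ^ r ^ j := by
    have := Fintype.ofFinite (zpowers σ)
    rw [Module.natCard_eq_pow_finrank (K := K), FixedPoints.finrank_eq_card, ← Nat.card_eq_fintype_card,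
      Nat.card_zpowers, hj]
  have h5 := f.range.card_mul_index
  rw [← Nat.card_congr (MonoidHom.ofInjective (f := f) fun a b e => Subtype.ext (Matrix.ext fun i j =>
    Subtype.ext (congrArg (fun x : SL2 F => x.1 i j) e))).toEquiv, card_SL_two] at h5
  refine h1.not_dvd_relIndex_of_le h3 ?_
  rw [relIndex_top_right]
  exact dvd_index_arith (j := j) hr.out Finite.one_lt_card (fun e => h0 (orderOf_eq_one_iff.1 (by rw [hj, e, pow_zero])))
    (by rw [h5, card_SL_two, h4]) (h5 ▸ hd.trans (card_quotient_dvd_card _))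

theorem psl2_inner (h2 : r ≠ 2) (hZ : center (PSL2 F) = ⊥) {α : MulAut (PSL2 F)} (hα : α ^ r ^ k = 1)
    {R : Subgroup (PSL2 F)} (hR : Syl r R ⊤) (hc : IsMulCommutative R) (hd : r ∣ Nat.card (PSL2 F))
    (h : ∀ x ∈ R, α x = x) : α ∈ Inn (PSL2 F) := by
  obtain ⟨Φ, h1, h3⟩ := exists_autField_two (F := F)
  have hi : Function.Injective (MulAut.conj : PSL2 F →* MulAut (PSL2 F)) := (MonoidHom.ker_eq_bot_iff _).1
    (eq_bot_iff.2 fun g hg => hZ.le (mem_center_iff.2 fun x => (mul_inv_eq_iff_eq_mul.1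
      (show g * x * g⁻¹ = x from DFunLike.congr_fun hg x)).symm))
  have h4 : ∀ β : MulAut (PSL2 F), β ∈ 𝐂 (R.map MulAut.conj) ↔ ∀ x ∈ R, β x = x := fun β => by
    have e : ∀ x, MulAut.conj x * β = β * MulAut.conj x ↔ β x = x := fun x => by
      rw [eq_comm, ← mul_inv_eq_iff_eq_mul, ← hi.eq_iff]
      exact iff_of_eq (congrArg (· = _) (MulEquiv.ext fun y => by simp))
    simp only [mem_centralizer_iff, coe_map, Set.forall_mem_image, e, SetLike.mem_coe]
  have h5 : R.map MulAut.conj ≤ Φ.ker := h3 ▸ (map_le_range _ _).trans Inn_le_range_pslConj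
  have h6 : Syl r (R.map MulAut.conj) Φ.ker := syl_of_not_dvd h5 (hR.isPGroup.map _) fun e => by
    have h6 := Core.card_mul_relIndex h5
    rw [card_map_of_injective hi, h3, card_range_pslConj, card_PGL_two, ← card_PSL_two, ← R.card_mul_index,
      mul_left_comm] at h6
    rw [h3, Nat.eq_of_mul_eq_mul_left Nat.card_pos h6, hr.out.dvd_mul] at e
    exact e.elim (fun e => h2 ((Nat.prime_dvd_prime_iff_eq hr.out Nat.prime_two).1 (e.trans (Nat.gcd_dvd_left _ _))))
      hR.not_dvd_index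
  have h7 : zpowers α ≤ 𝐂 (R.map MulAut.conj) := zpowers_le.2 ((h4 α).2 h)
  obtain ⟨T, hT, h8⟩ := exists_syl_ge ((isPGroup_zpowers_of_pow hα).to_sup_of_normal_right' h6.isPGroup
    (h7.trans (centralizer_le_normalizer _))) (sup_le_sup_left h5 (zpowers α))
  have h9 : T ⊓ Φ.ker = R.map MulAut.conj :=
    h6.eq_of_le _ (le_inf (le_sup_right.trans h8) h5) inf_le_right hT.isPGroup.to_inf_left
  have h10 : T ≤ 𝐂 (R.map MulAut.conj) := fun β hβ => by
    obtain ⟨a, ha, b, hb, rfl⟩ := mem_sup_of_normal_right.1 (hT.le hβ)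
    have : IsMulCommutative (R.map (MulAut.conj : PSL2 F →* _)) := inferInstance
    exact mul_mem (h7 ha) (le_centralizer _ (h9.le ⟨(T.mul_mem_cancel_left (h8 (mem_sup_left ha))).1 hβ, hb⟩))
  have h11 : Φ α ^ r ^ k = 1 := by rw [← map_pow, hα, map_one]
  obtain ⟨x, -, hx⟩ := hT.exists_conj_le (isPGroup_zpowers_of_pow (x := pslField _ F (Φ α)) (k := k)
    (by rw [← map_pow, h11, map_one])) (zpowers_le.2 (by
      rw [← mul_inv_cancel_left α (pslField _ F (Φ α))]
      exact mul_mem_sup (mem_zpowers α) (by simp [MonoidHom.mem_ker, h1])))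
  have h12 := (h4 _).1 (h10 (hx (conj_mem_cj x (mem_zpowers _))))
  have h13 := field_eq_one h2 h11 (hR.map_top (f := x⁻¹.toMonoidHom) x⁻¹.surjective) hd (by
    rintro _ ⟨y, hy, rfl⟩
    exact x.injective (by simpa using h12 y hy))
  exact map_le_range _ _ (h9.le ⟨h8 (mem_sup_left (mem_zpowers α)), h13⟩)

theorem inner_of_equiv {G H : Type*} [Group G] [Group H] (e : G ≃* H) {α : MulAut G} (h : MulAut.congr e α ∈ Inn H) :
    ∃ g : G, ∀ x : G, α x = g * x * g⁻¹ := by
  obtain ⟨g, hg⟩ := h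
  exact ⟨e.symm g, fun x => e.injective (by simpa using (DFunLike.congr_fun hg (e x)).symm)⟩

theorem s2555 {G : Type*} [Group G] [Finite G] [IsSimpleGroup G] (hna : ¬ IsMulCommutative G)
    (hA : ∀ p : ℕ, p.Prime → ∀ P : Sylow p G, IsMulCommutative P)
    (hG : Spor.IsoJ1 G ∨ ∃ (F : Type) (_ : Field F) (_ : Fintype F), Nonempty (G ≃* PSL2 F))
    (r : ℕ) [Fact r.Prime] (hr : r ∣ Nat.card G) (α : G ≃* G) (k : ℕ) (hα : orderOf α = r ^ k)
    (R : Sylow r G) (hR : ∀ x ∈ (R : Subgroup G), α x = x) : ∃ g : G, ∀ x : G, α x = g * x * g⁻¹ := by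
  have hZ : center G = ⊥ := (IsSimpleGroup.eq_bot_or_eq_top_of_normal _ inferInstance).resolve_right fun e =>
    hna ⟨⟨fun a b => mem_center_iff.1 (e.ge (mem_top b)) a⟩⟩
  by_cases h2 : r = 2
  · subst h2
    exact Agent.S4593.result hZ (Gold.core_of_simple hna) R (hA 2 Nat.prime_two R) α ⟨k, hα⟩ hR
  rcases hG with ⟨⟨e⟩⟩ | ⟨F, _, _, ⟨e⟩⟩
  · refine inner_of_equiv e ?_
    have := (Nat.card_eq_one_iff_unique.1 Agent.S2065.result).1
    exact (QuotientGroup.eq_one_iff _).1 (Subsingleton.elim _ _)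
  · have := hA r Fact.out R
    refine inner_of_equiv e (psl2_inner (k := k) h2 ?_ (by rw [← map_pow, ← hα, pow_orderOf_eq_one, map_one])
      ((syl_top R).map_top (f := e.toMonoidHom) e.surjective) inferInstance (Nat.card_congr e.toEquiv ▸ hr) ?_)
    · exact eq_bot_iff.2 fun x hx => e.symm.injective ((mem_bot.1 (hZ.le (mem_center_iff.2 fun y => e.injective
        (by simpa using mem_center_iff.1 hx (e y))))).trans (map_one _).symm)
    · rintro _ ⟨y, hy, rfl⟩
      simp [hR y hy]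

end Cfsg.Lib.SF
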