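import Cfsg.Agent.Lib.Glaub.Stab
import Cfsg.Agent.Lib.KS9.Offender
import Cfsg.Agent.Lib.Amalg.CD
import Cfsg.Agent.Lib.PGrp.Basic
import Cfsg.Prelude.Def_DStar

/-! The characteristic subgroup `D*(S)` of Glauberman and Solomon. -/

set_option autoImplicit false
set_option linter.unusedSectionVars false

namespace Cfsg.Lib.SF

open Subgroup Cfsg.Lib.Core Cfsg.Lib.Amalg
open scoped commutatorElement

variable {G : Type*} [Group G] [Finite G] {p : ℕ} [Fact p.Prime] {A B S T V : Subgroup G} {x : G}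

/-- ambient form of `dStarFamily` -/
structure DF (T A : Subgroup G) : Prop where
  le : A ≤ T
  comm : IsMulCommutative A
  cent : ∀ x ∈ T, ⁅⁅A ⊔ zpowers x, A ⊔ zpowers x⁆, A ⊔ zpowers x⁆ = ⊥ → x ∈ 𝐂 A

theorem df_map_iff {G' : Type*} [Group G'] {f : G →* G'} (hf : Function.Injective f) :
    DF (T.map f) (A.map f) ↔ DF T A := by
  have key : ∀ x, (⁅⁅A.map f ⊔ zpowers (f x), A.map f ⊔ zpowers (f x)⁆, A.map f ⊔ zpowers (f x)⁆ = ⊥ →
      f x ∈ 𝐂 (A.map f)) ↔ (⁅⁅A ⊔ zpowers x, A ⊔ zpowers x⁆, A ⊔ zpowers x⁆ = ⊥ → x ∈ 𝐂 A) := fun x => by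
    rw [← MonoidHom.map_zpowers, ← Subgroup.map_sup, ← Subgroup.map_commutator, ← Subgroup.map_commutator,
      Subgroup.map_eq_bot_iff_of_injective _ hf]
    simp only [mem_centralizer_iff, SetLike.mem_coe, mem_map, forall_exists_index, and_imp,
      forall_apply_eq_imp_iff₂, ← map_mul, hf.eq_iff]
  refine ⟨fun h => ⟨(map_le_map_iff_of_injective hf).1 h.le, ⟨⟨fun a b => Subtype.ext (hf ?_)⟩⟩,
    fun x hx => (key x).1 (h.cent _ (mem_map_of_mem f hx))⟩, fun h => ⟨map_mono h.le, ?_, ?_⟩⟩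
  · simpa using comm_of_mem_of_isMulCommutative h.comm (mem_map_of_mem f a.2) (mem_map_of_mem f b.2)
  · have := h.comm; infer_instance
  · rintro _ ⟨x, hx, rfl⟩; exact (key x).2 (h.cent x hx)

theorem df_top : DF ⊤ A ↔ A ∈ dStarFamily G :=
  ⟨fun h => ⟨h.comm, fun x e a ha => h.cent x trivial e a ha⟩, fun h => ⟨le_top, h.1, fun x _ e a ha => h.2 x e a ha⟩⟩

theorem DF.le_dStarOf (h : DF T A) : A ≤ dStarOf T := by
  rw [← map_subgroupOf_of_le h.le]
  refine map_mono (le_sSup (df_top.1 ((df_map_iff T.subtype_injective).1 ?_)))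
  rwa [map_subgroupOf_of_le h.le, map_subtype_top]

theorem DF.conj (h : DF T A) (g : G) : DF (cj g T) (cj g A) := (df_map_iff (MulAut.conj g).injective).2 h

theorem DF.mono (h : DF T A) (h1 : A ≤ S) (h2 : S ≤ T) : DF S A := ⟨h1, h.comm, fun x hx => h.cent x (h2 hx)⟩

theorem cls2 (hA : IsMulCommutative A) (h1 : ⁅A, zpowers x⁆ ≤ 𝐂 A) (h2 : ⁅⁅A, zpowers x⁆, zpowers x⁆ = ⊥) :
    ⁅⁅A ⊔ zpowers x, A ⊔ zpowers x⁆, A ⊔ zpowers x⁆ = ⊥ := by
  have h3 : ⁅A, zpowers x⁆ ≤ 𝐂 (A ⊔ zpowers x) := by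
    rw [Core.centralizer_sup]; exact le_inf h1 (comm_eq_bot_iff.1 h2)
  have n1 : A ≤ 𝐍 (𝐂 (A ⊔ zpowers x)) := le_normalizer_centralizer (le_normalizer_of_le le_sup_left)
  have n2 : zpowers x ≤ 𝐍 (𝐂 (A ⊔ zpowers x)) := le_normalizer_centralizer (le_normalizer_of_le le_sup_right)
  refine comm_eq_bot_iff.2 (comm_sup_le (comm_sup_le' ?_ h3 n1 n2) (comm_sup_le' (commutator_comm A _ ▸ h3) ?_ n1 n2) n1 n2)
  · rw [comm_eq_bot_iff.2 (isMulCommutative_iff_le_cent.1 hA)]; exact bot_le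
  · rw [comm_eq_bot_iff.2 (isMulCommutative_iff_le_cent.1 inferInstance)]; exact bot_le

theorem DF.le_cent (h : DF T A) (hT : IsPGroup p T) (B : Subgroup G) :
    B ≤ T → IsMulCommutative B → A ≤ 𝐍 B → B ≤ 𝐂 A := by
  induction B using WellFoundedLT.induction with
  | ind B ih =>
  intro h1 h2 h3 x hx
  have h4 := comm_le_left h3
  rcases h4.lt_or_eq with i | i
  · have h5 : ⁅A, zpowers x⁆ ≤ ⁅B, A⁆ := by
      rw [commutator_comm A]; exact commutator_mono (zpowers_le.2 hx) le_rfl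
    exact h.cent x (h1 hx) (cls2 h.comm (h5.trans (ih _ i (h4.trans h1) (isMulCommutative_of_le' h2 h4)
      (right_le_normalizer_comm _ _))) (comm_eq_bot_iff.2 (KS9.le_cent_of_comm h2 (zpowers_le.2 hx) (h5.trans h4))))
  · rw [KS9.eq_bot_of_le_comm_of_res (hT.to_le h1) h3 (res_eq_bot (hT.to_le h.le) ▸ bot_le) i.ge] at hx
    exact mem_bot.1 hx ▸ one_mem _

theorem dStar_le_of_max (hG : IsPGroup p G) [A.Normal] (hA : IsMulCommutative A) (h : 𝐂 A ≤ A) : dStar G ≤ A :=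
  sSup_le fun _ hB => (Amalg.le_cent_symm ((df_top.2 hB).le_cent (hG.to_subgroup ⊤) A le_top hA
    le_normalizer_of_normal)).trans h

theorem dStar_mem (hG : IsPGroup p G) : dStar G ∈ dStarFamily G := by
  obtain ⟨A, h1, h2, -, -, h3⟩ := PGrp.exists_normal_self_centralizing_in hG ⊤ ⊥ bot_le inferInstance
  refine df_top.1 ⟨le_top, isMulCommutative_of_le' h2 (dStar_le_of_max hG h2 (by rw [top_inf_eq] at h3; exact h3.le)),
    fun x _ e => zpowers_le.1 (Amalg.le_cent_symm (sSup_le fun B hB => Amalg.le_cent_symm (zpowers_le.2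
      ((df_top.2 hB).cent x trivial (le_bot_iff.1 (e ▸ ?_))))))⟩
  have : B ⊔ zpowers x ≤ dStar G ⊔ zpowers x := sup_le_sup_right (le_sSup hB) _
  exact commutator_mono (commutator_mono this this) this

theorem df_dStarOf (hT : IsPGroup p T) : DF T (dStarOf T) := by
  have := (df_map_iff T.subtype_injective).2 (df_top.2 (dStar_mem hT))
  rwa [map_subtype_top] at this

theorem norm_le_norm_dStarOf (hT : IsPGroup p T) : 𝐍 T ≤ 𝐍 (dStarOf T) := fun g hg =>
  Amalg.mem_normalizer_of_cj_le (cj_of_mem_normalizer hg ▸ (df_dStarOf hT).conj g).le_dStarOf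

theorem DF.maxAb_le (h : DF ⊤ V) (hG : IsPGroup p G) (hA : A ∈ maxAbelianSubgroups G) (hn : A ≤ 𝐍 V) : A ≤ 𝐂 V := by
  have hc := isMulCommutative_iff_le_cent.1 hA.1
  have h1 := (KS9.repl_eq h.comm hn (by rw [comm_eq_bot_iff.2 hc]; exact bot_le) (fun B hB => by
    rw [KS9.ms, ← card_sup_mul_card_inf ((Amalg.le_cent_symm inf_le_right).trans (cent_le_norm (V ⊓ 𝐂 B)))]
    exact Nat.mul_le_mul (hA.2 _ (comm_sup (isMulCommutative_of_le' hA.1 hB) (isMulCommutative_of_le' h.comm inf_le_left)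
      (Amalg.le_cent_symm inf_le_right))) (card_le_of_le (le_inf (inf_le_right.trans inf_le_left)
        (inf_le_left.trans (hB.trans hc))))) le_rfl).1
  have h2 : A ⊓ 𝐂 ⁅V, A⁆ ≤ 𝐂 V := fun x hx => by
    have i : ⁅V, zpowers x⁆ ≤ ⁅V, A⁆ := commutator_mono le_rfl (zpowers_le.2 hx.1)
    exact h.cent x trivial (cls2 h.comm (KS9.le_cent_of_comm h.comm le_rfl (i.trans (comm_le_left hn)))
      (comm_eq_bot_iff'.2 ((zpowers_le.2 hx.2).trans (centralizer_anti i))))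
  rw [inf_eq_left.2 (Amalg.le_cent_symm h2)] at h1
  have h3 := comm_le_left hn
  have h4 : ⁅⁅V, A⁆, A⁆ ≤ V := (commutator_mono h3 le_rfl).trans h3
  refine comm_eq_bot_iff'.1 (KS9.eq_bot_of_le_comm_of_res (hG.to_subgroup _) (right_le_normalizer_comm V A)
    (res_eq_bot (hG.to_subgroup A) ▸ bot_le) ((commutator_mono h1.le le_rfl).trans (comm_sup_le le_rfl ?_
      (h3.trans (KS9.le_norm_of_comm h.comm h4)) (inf_le_left.trans (KS9.le_norm_of_comm h.comm h4)))))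
  rw [comm_eq_bot_iff.2 inf_le_right]; exact bot_le

/-- the `D*`-theorem -/
theorem dStarOf_normal (hc : 𝐂 (pCore p G) ≤ pCore p G)
    (hst : ∀ (P : Subgroup G) [P.Normal], IsPGroup p P → Glaub.Stab p ⊤ P) (hS : Syl p S ⊤) : (dStarOf S).Normal := by
  have := pCore_characteristic p G
  have hD := df_dStarOf hS.isPGroup
  have hQ := hS.pCore_le
  have hn := le_normalizer.trans (norm_le_norm_dStarOf hS.isPGroup)
  have h1 : dStarOf S ≤ pCore p G := ((hst _ (isPGroup_pCore p G)).le le_top (comm_eq_bot_iff.2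
    ((comm_le_right (hQ.trans hn)).trans (isMulCommutative_iff_le_cent.1 hD.comm)))).trans (le_pCore
      (hN := normal_of_top_le_normalizer (Glaub.le_norm_opMod le_normalizer_of_normal)) (by
        rw [← res_eq_bot_iff, eq_bot_iff, ← res_eq_bot (isPGroup_pCore p G), ← res_res]
        exact res_mono ((Glaub.res_opMod_le le_normalizer_of_normal).trans hc)))
  obtain ⟨W, hW⟩ : ∃ W, W = ⨆ g : G, cj g (dStarOf S) := ⟨_, rfl⟩
  have hWn : W.Normal := by rw [hW, ← normalClosure_eq_iSup_cj]; infer_instance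
  have hDW : ∀ g, cj g (dStarOf S) ≤ W := fun g => hW ▸ le_iSup (fun g : G => cj g (dStarOf S)) g
  have h2 : W ≤ dStarOf (pCore p G) := hW ▸ iSup_le fun g =>
    (cj_normal g (pCore p G) ▸ (hD.mono h1 hQ).conj g).le_dStarOf
  have h3 := df_dStarOf (isPGroup_pCore p G)
  have h4 : DF S W := ⟨h2.trans (h3.le.trans hQ), isMulCommutative_of_le' h3.comm h2, fun x hx e => by
    have i1 : x ∈ Glaub.opMod p ⊤ (𝐂 W) := hst W ((isPGroup_pCore p G).to_le (h2.trans h3.le)) x trivial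
      (le_bot_iff.1 (e ▸ commutator_mono (commutator_mono le_sup_left le_sup_right) le_sup_right))
    have i2 : (⊤ : Subgroup G) ≤ 𝐍 (Glaub.opMod p ⊤ (𝐂 W)) := Glaub.le_norm_opMod le_normalizer_of_normal
    have hT := hS.inf_normal le_top i2
    rw [hW, centralizer_iSup, mem_iInf]
    intro g
    obtain ⟨n, hn, a, ha, rfl⟩ := hT.frattini_mem (g := g) (i2 trivial)
    obtain ⟨c, hc, t, ht, rfl⟩ := hT.mem_res_mul hn
    rw [mul_assoc, cj_mul, cj_of_mem_centralizer (centralizer_anti (hDW _)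
      (Glaub.res_opMod_le le_normalizer_of_normal hc))]
    refine (hD.conj _).cent x (cj_mono _ inf_le_left ((cj_of_mem_normalizer (mul_mem (le_normalizer ht) ha)).ge
      ⟨hx, i1⟩)) (le_bot_iff.1 (e ▸ ?_))
    have := sup_le_sup_right (hDW (t * a)) (zpowers x)
    exact commutator_mono (commutator_mono this this) this⟩
  rwa [le_antisymm (cj_one (dStarOf S) ▸ hDW 1) h4.le_dStarOf]

/-- Thompson's lemma -/
theorem thompson_lemma (hA : A ∈ maxAbelianSubgroups G) (hV : V = closure {y | ∃ a ∈ A, y = ⁅x, a⁆})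
    (hc : IsMulCommutative V) : V ⊔ (A ⊓ 𝐂 V) ∈ maxAbelianSubgroups G := by
  have hm : ∀ a ∈ A, ⁅x, a⁆ ∈ V := fun a ha => hV ▸ subset_closure ⟨a, ha, rfl⟩
  have key : (A ⊓ 𝐂 V).relIndex A ≤ (V ⊓ 𝐂 A).relIndex V := by
    refine KS9.relIndex_le_of_fun (fun c => ⁅x, c⁆) hm fun c hc' d hd h => ?_
    have hcd := mul_mem (inv_mem hc') hd
    have h1 : ⁅x, c⁻¹ * d⁆ ∈ 𝐂 A := by
      rw [show ⁅x, c⁻¹ * d⁆ = c⁻¹ * (⁅x, c⁆⁻¹ * ⁅x, d⁆) * c by simp only [commutatorElement_def]; group]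
      exact conj_inv_mem_of_mem_normalizer (le_normalizer_centralizer le_normalizer hc') h.2
    refine ⟨hcd, ?_⟩
    generalize c⁻¹ * d = e at hcd h1
    rw [hV, centralizer_closure]
    rintro _ ⟨a, ha, rfl⟩
    have e1 : ⁅x, e⁆ * (e * ⁅x, a⁆ * e⁻¹) = ⁅x, a⁆ * (a * ⁅x, e⁆ * a⁻¹) := by
      have : ∀ u v : G, ⁅x, u⁆ * (u * ⁅x, v⁆ * u⁻¹) = ⁅x, u * v⁆ := fun u v => by
        simp only [commutatorElement_def]; group
      rw [this, this, comm_of_mem_of_isMulCommutative hA.1 hcd ha]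
    rw [h1 a ha, mul_inv_cancel_right, comm_of_mem_of_isMulCommutative hc (hm a ha) (hm e hcd), mul_right_inj] at e1
    exact (mul_inv_eq_iff_eq_mul.1 e1).symm
  refine maxAb_of_card_ge hA (comm_sup hc (isMulCommutative_of_le' hA.1 inf_le_left) (Amalg.le_cent_symm inf_le_right)) ?_
  have h1 := card_sup_mul_card_inf (H := A ⊓ 𝐂 V) (K := V) (inf_le_right.trans (cent_le_norm V))
  have h2 : Nat.card ↥(A ⊓ 𝐂 V ⊓ V) ≤ Nat.card ↥(V ⊓ 𝐂 A) := card_le_of_le (le_inf inf_le_right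
    (inf_le_left.trans (inf_le_left.trans (isMulCommutative_iff_le_cent.1 hA.1))))
  rw [← card_mul_relIndex (inf_le_left : V ⊓ 𝐂 A ≤ V), sup_comm] at h1
  rw [← card_mul_relIndex (inf_le_left : A ⊓ 𝐂 V ≤ A)]
  have p1 : 0 < Nat.card ↥(V ⊓ 𝐂 A) := Nat.card_pos
  refine Nat.le_of_mul_le_mul_right (le_trans ?_ (h1.ge.trans (Nat.mul_le_mul_left _ h2))) p1
  rw [mul_assoc, mul_comm (Nat.card ↥(V ⊓ 𝐂 A))]
  exact Nat.mul_le_mul_left _ (Nat.mul_le_mul_right _ key)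

theorem exists_normal_maxAb (hG : IsMulCommutative (_root_.commutator G)) (hA : A ∈ maxAbelianSubgroups G) :
    ∃ B ∈ maxAbelianSubgroups G, B.Normal ∧ B ≤ normalClosure A := by
  obtain ⟨B, ⟨h1, h2⟩, h3⟩ := Set.exists_max_image {B | B ∈ maxAbelianSubgroups G ∧ B ≤ normalClosure A}
    (fun B => Nat.card ↥(B ⊓ _root_.commutator G)) (Set.toFinite _) ⟨A, hA, le_normalClosure⟩
  refine ⟨B, h1, ⟨fun b hb x => ?_⟩, h2⟩
  obtain ⟨V, hV⟩ : ∃ V, V = closure {y | ∃ a ∈ B, y = ⁅x, a⁆} := ⟨_, rfl⟩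
  have h4 : V ≤ _root_.commutator G := hV ▸ (closure_le _).2 (by
    rintro _ ⟨a, _, rfl⟩; exact commutator_mem_commutator (mem_top _) (mem_top _))
  have h5 : V ≤ normalClosure A := hV ▸ (closure_le _).2 (by
    rintro _ ⟨a, ha, rfl⟩; exact mul_mem (normalClosure_normal.conj_mem _ (h2 ha) x) (inv_mem (h2 ha)))
  have h6 : B ⊓ _root_.commutator G ≤ (V ⊔ (B ⊓ 𝐂 V)) ⊓ _root_.commutator G := le_inf (le_sup_of_le_right
    (le_inf inf_le_left (KS9.le_cent_of_comm hG h4 inf_le_right))) inf_le_right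
  have h7 := eq_of_le_of_card_ge h6 (h3 _ ⟨thompson_lemma h1 hV (isMulCommutative_of_le' hG h4),
    sup_le h5 (inf_le_left.trans h2)⟩)
  have h8 : ⁅x, b⁆ ∈ B := ((le_inf le_sup_left h4).trans (h7.ge.trans inf_le_left)) (hV ▸ subset_closure ⟨b, hb, rfl⟩)
  simpa [commutatorElement_def] using mul_mem h8 hb

end Cfsg.Lib.SF
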