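import Cfsg.Agent.Lib.Glaub.S4F
import Cfsg.Agent.Lib.SF.Cor
import Cfsg.Agent.Lib.Layer.CompAction
import Cfsg.Agent.Lib.Fus2.Real2
import Cfsg.Agent.S2602
import Cfsg.Agent.Lib.Amalg.BkMap
import Cfsg.Agent.Lib.Hall.FC5

/-! `S₃`-free groups with fixed point free operators; `S₃`-free fusion systems. -/

set_option autoImplicit false

namespace Cfsg.Lib.SF

open Subgroup Cfsg.Lib.Core Cfsg.Lib.Amalg Cfsg.Lib.Fus2 Cfsg.Lib.Transfer
open scoped commutatorElement

universe u

local notation "S₃" => Equiv.Perm (Fin 3)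
local notation "S₄" => Equiv.Perm (Fin 4)

/-- cyclic outer automorphism group and an invariant class -/
def CO (X : Type*) [Group X] : Prop := IsCyclic (Out X) ∧ ∃ t : X, t ≠ 1 ∧ ∀ α : MulAut X, IsConj t (α t)

theorem CO.congr {X Y : Type*} [Group X] [Group Y] (h : CO Y) (e : X ≃* Y) : CO X := by
  obtain ⟨h1, t, h2, h3⟩ := h
  refine ⟨isCyclic_of_surjective (QuotientGroup.congr (Inn Y) (Inn X) (MulAut.congr e.symm) ?_)
    (MulEquiv.surjective _), e.symm t, by simpa using h2, fun α => ?_⟩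
  · ext φ
    constructor
    · rintro ⟨_, ⟨g, rfl⟩, rfl⟩
      exact ⟨e.symm g, by ext; simp⟩
    · rintro ⟨g, rfl⟩
      exact ⟨MulAut.conj (e g), ⟨_, rfl⟩, by ext; simp⟩
  · simpa using e.symm.toMonoidHom.map_isConj (h3 (MulAut.congr e α))

theorem co_of_conj {X : Type*} [Group X] [Finite X] (h1 : IsCyclic (Out X)) (h2 : 2 ∣ Nat.card X)
    (h3 : ∀ s t : X, orderOf s = 2 → orderOf t = 2 → IsConj s t) : CO X := by
  obtain ⟨t, ht⟩ := exists_prime_orderOf_dvd_card' (hp := ⟨Nat.prime_two⟩) 2 h2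
  exact ⟨h1, t, fun e => by simp [e] at ht, fun α => h3 _ _ ht ((MulEquiv.orderOf_eq α t).trans ht)⟩

theorem isCyclic_of_ker_two {X : Type*} [Group X] [Finite X] {f : ℕ} (hf : Odd f) (φ : X →* Multiplicative (ZMod f))
    (h : Nat.card φ.ker = 2) : IsCyclic X := by
  have : NeZero f := ⟨hf.pos.ne'⟩
  have h1 : φ.ker ≤ center X := fun x hx => mem_center_iff.2 fun g => by
    obtain ⟨y, -, hy⟩ := (Nat.card_eq_two_iff' (1 : φ.ker)).1 h
    by_cases e : x = 1
    · simp [e]
    · have a := hy ⟨x, hx⟩ fun i => e (congrArg Subtype.val i)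
      have b := hy ⟨g * x * g⁻¹, (inferInstance : φ.ker.Normal).conj_mem x hx g⟩ fun i => e (by
        simpa using congrArg Subtype.val i)
      exact mul_inv_eq_iff_eq_mul.1 (congrArg Subtype.val (b.trans a.symm))
  have h2 := φ.isMulCommutative_of_isCyclic_of_ker_le_center h1
  have h3 : IsCyclic φ.ker := isCyclic_of_prime_card (p := 2) (hp := ⟨Nat.prime_two⟩) h
  have h4 : Nat.card φ.range ∣ f := by simpa using card_subgroup_dvd_card φ.range
  have h5 := isCyclic_of_injective φ.range.subtype φ.range.subtype_injective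
  open scoped IsMulCommutative in
  exact Group.isCyclic_of_coprime_card_range_card_ker φ
    (h ▸ (Nat.Coprime.coprime_dvd_left h4 hf.coprime_two_right).symm)

theorem co_of_suz {X : Type*} [Group X] [Finite X] (hc : ¬ Group.IsSolvable X) (h : IsSuzukiOrPSL2OddPowerThree X) :
    CO X := by
  rcases h with ⟨F, _, _, m, hm, hF, ⟨e⟩⟩ | ⟨F, _, _, n, hF, ⟨e⟩⟩
  · have := BN.Sz.szField_of_card hm hF
    have e' := e.trans (BN.Sz.szEquiv m).symm
    have := Finite.of_equiv _ e'.toEquiv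
    refine CO.congr (co_of_conj ?_ ?_ fun s t a b => BN.Sz.isConj_of_involution (fun e => by simp [e] at a)
      (by rw [← sq, ← a, pow_orderOf_eq_one]) (fun e => by simp [e] at b) (by rw [← sq, ← b, pow_orderOf_eq_one])) e'
    · have := CAut.isCyclic_ringAut (F := F)
      refine isCyclic_of_surjective ((QuotientGroup.mk' (Inn (Cfsg.Sz F m))).comp (BN.Sz.fieldAut F m)) fun α => ?_
      induction α using QuotientGroup.induction_on with
      | H α =>
      obtain ⟨x, φ, h⟩ := BN.Sz.exists_eq_conj_szMap α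
      have : α = MulAut.conj x * BN.Sz.fieldAut F m φ := MulEquiv.ext h
      refine ⟨φ, ?_⟩
      rw [this, QuotientGroup.mk_mul, (QuotientGroup.eq_one_iff (N := Inn (Cfsg.Sz F m)) (MulAut.conj x)).2 ⟨x, rfl⟩,
        one_mul]
      rfl
    · rw [← Nat.card_congr e'.toEquiv]
      by_contra h2
      exact hc (Cfsg.Agent.S0205.result (Nat.odd_iff.2 (Nat.two_dvd_ne_zero.1 h2)))
  · have := Fact.mk Nat.prime_three
    have h2 : (2 : F) ≠ 0 := fun h2 => by
      have := FiniteField.cast_card_eq_zero F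
      rw [hF, Nat.cast_pow, show ((3 : ℕ) : F) = 2 + 1 by norm_num, h2, zero_add, one_pow] at this
      exact one_ne_zero this
    refine CO.congr (co_of_conj ?_ ?_ fun s t => Linear.psl2_isConj_of_orderOf_two h2) e
    · rcases n with _ | n
      · refine absurd ?_ hc
        have := Linear.card_PSL_two_of_odd (F := F) (by rw [Nat.card_eq_fintype_card, hF]; decide)
        rw [Nat.card_eq_fintype_card (α := F), hF, ← Nat.card_congr e.toEquiv] at this
        exact Hall.solvable_of_card_lt_sixty _ X rfl (by norm_num at this; omega)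
      obtain ⟨φ, -, -, h⟩ := Cfsg.Agent.S2602.result (by omega) hF (le_trans (by norm_num)
        (Nat.pow_le_pow_right (by norm_num) (show 2 ≤ _ by omega)))
      refine isCyclic_of_ker_two ⟨_, rfl⟩ φ (h.trans (Nat.gcd_eq_left ?_))
      exact (Nat.Odd.sub_odd (Odd.pow (by decide)) odd_one).two_dvd
    · rw [← Nat.card_congr e.toEquiv]
      by_contra h2
      exact hc (Cfsg.Agent.S0205.result (Nat.odd_iff.2 (Nat.two_dvd_ne_zero.1 h2)))

section
variable {G : Type u} [Group G] [Finite G] {p : ℕ} [Fact p.Prime] {A P X : Subgroup G}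

theorem fix_res (hP : IsPGroup p P) (hn : A ≤ 𝐍(P)) (h : P ⊓ 𝐂(A) = ⊥) : P ⊓ 𝐂(resOf p A) = ⊥ := by
  by_contra h1
  obtain ⟨T, hT⟩ := exists_sylowIn (p := p) A
  refine inf_centralizer_ne_bot_of_isPGroup (hP.to_le inf_le_left) hT.isPGroup (hT.le.trans
    (le_normalizer_inf hn (le_normalizer_centralizer (le_normalizer_resOf A)))) h1 ?_
  rw [inf_assoc, ← centralizer_sup, hT.resOf_sup, h]

theorem fix_map {G' : Type*} [Group G'] (f : G →* G') (hP : IsPGroup p f.ker) (hA : PNil p A) (hn : A ≤ 𝐍(X))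
    (hk : f.ker ≤ X) (h : X ⊓ 𝐂(A) = ⊥) : X.map f ⊓ 𝐂(A.map f) = ⊥ := by
  have h1 := fix_res hP (le_normalizer_of_normal' (A := A)) (le_bot_iff.1 (h ▸ inf_le_inf_right _ hk))
  have h2 := Coprime.map_inf_centralizer f ((resOf_le A).trans hn) (by
    rw [inf_eq_right.2 hk]; exact Coprime.coprime_card_of_isPGroup hP hA.coprime) (.inr (by
      rw [inf_eq_right.2 hk]; exact Coprime.isSolvable_of_isPGroup hP))
  refine eq_bot_iff.2 fun y hy => ?_
  obtain ⟨x, hx, rfl⟩ := h2.ge ⟨hy.1, centralizer_anti (map_mono (resOf_le A)) hy.2⟩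
  have h3 : x ∈ X ⊓ 𝐂(A) := ⟨hx.1, fun a ha => by
    have i : ⁅a, x⁆ ∈ f.ker ⊓ 𝐂(resOf p A) := mem_inf.2 ⟨by
      rw [MonoidHom.mem_ker, map_commutatorElement, commutatorElement_eq_one_iff_mul_comm]
      exact hy.2 _ (mem_map_of_mem f ha), mul_mem (Core.conj_mem_of_mem_normalizer
        (le_normalizer_centralizer (le_normalizer_resOf A) ha) hx.2) (inv_mem hx.2)⟩
    rw [h1] at i
    exact commutatorElement_eq_one_iff_mul_comm.1 i⟩
  rw [h] at h3
  rw [mem_bot.1 h3, map_one]; exact one_mem _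

theorem not_co [X.Normal] [IsSimpleGroup X] (hc : ¬ IsMulCommutative X) (h : X ⊓ 𝐂(A) = ⊥)
    (hA : ∀ (p : ℕ) [Fact p.Prime], p ∣ Nat.card X → PNil p A) : ¬ CO X := by
  rintro ⟨h1, t, h2, h3⟩
  let ψ : G →* MulAut X := MulAut.conjNormal
  have hk : ψ.ker = 𝐂(X) := by
    ext g
    simp only [MonoidHom.mem_ker, MulEquiv.ext_iff, mem_centralizer_iff, ψ, Subtype.ext_iff,
      MulAut.conjNormal_apply, MulAut.one_apply, mul_inv_eq_iff_eq_mul, Subtype.forall]
    exact ⟨fun a x hx => (a x hx).symm, fun a x hx => (a x hx).symm⟩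
  have hZ : X ⊓ 𝐂(X) = ⊥ := by
    rw [← Core.map_subtype_center, (IsSimpleGroup.eq_bot_or_eq_top_of_normal (center X) inferInstance).resolve_right
      fun e => hc (by rwa [← center_eq_top_iff]), Subgroup.map_bot]
  have h4 : X ⊓ (A.map ψ).comap ψ = ⊥ := by
    by_contra h4
    generalize hY : X ⊓ (A.map ψ).comap ψ = Y at h4
    have i1 : Y ≤ X := hY ▸ inf_le_left
    have i2 : Y.map ψ ≤ A.map ψ := map_le_iff_le_comap.2 (hY ▸ inf_le_right)
    have i3 : A ≤ 𝐍(Y) := hY ▸ le_normalizer_inf le_normalizer_of_normal'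
      (le_normalizer_of_le (le_comap_map ψ A))
    have i4 : Group.IsNilpotent Y := Hall.isNilpotent_of_forall_pnil fun q _ hq =>
      hasNormalPComplement_iff_top.1 (hasNormalPComplement_iff.2 (PNil.of_map ψ
        (((hA q (hq.trans (card_dvd_of_le i1))).map ψ).mono i2) (by
          rw [hk, le_bot_iff.1 (hZ ▸ le_inf (inf_le_right.trans i1) inf_le_left : 𝐂(X) ⊓ Y ≤ ⊥), card_bot,
            Nat.dvd_one]
          exact (Fact.out : q.Prime).one_lt.ne')))
    have := (nontrivial_iff_ne_bot Y).2 h4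
    obtain ⟨q, hq, i5⟩ := exists_pCore_ne_bot_of_solvable (G := Y)
    have := Fact.mk hq
    have i6 : pCoreOf q Y ≠ ⊥ := fun e => i5 ((map_eq_bot_iff_of_injective _ Y.subtype_injective).1 e)
    have i7 := op_isPGroup (p := q) Y
    have i8 := i3.trans (norm_le_norm_op (p := q) Y)
    have i9 := (op_le (p := q) Y).trans i1
    have i10 : q ∣ Nat.card X := (i7.card_eq_or_dvd.resolve_left fun e => i6 (card_eq_one.1 e)).trans
      (card_dvd_of_le i9)
    refine i6 ((inf_eq_left.2 (Amalg.le_cent_symm fun b hb x hx => ?_)).symm.trans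
      (fix_res i7 i8 (le_bot_iff.1 (h ▸ inf_le_inf_right _ i9))))
    have j1 := ((hA q i10).map ψ).mem_centralizer (i7.map ψ) ((map_mono (op_le Y)).trans i2)
      (map_resOf_le ψ A (mem_map_of_mem ψ hb)) (le_normalizer_map ψ (mem_map_of_mem ψ (i8 (resOf_le A hb))))
    have j2 : ⁅b, x⁆ ∈ X ⊓ 𝐂(X) := mem_inf.2 ⟨mul_mem (‹X.Normal›.conj_mem x (i9 hx) b) (inv_mem (i9 hx)), by
      rw [← hk, MonoidHom.mem_ker, map_commutatorElement, commutatorElement_eq_one_iff_mul_comm]
      exact (j1 _ (mem_map_of_mem ψ hx)).symm⟩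
    rw [hZ] at j2
    exact (commutatorElement_eq_one_iff_mul_comm.1 j2).symm
  have h5 : IsCyclic (A.map ψ) := isCyclic_of_injective ((QuotientGroup.mk' (Inn X)).comp (A.map ψ).subtype)
    ((injective_iff_map_eq_one _).2 fun a ha => by
      obtain ⟨x, hx⟩ := (QuotientGroup.eq_one_iff _).1 ha
      have e : ψ x = a := Eq.trans (b := MulAut.conj x) (MulEquiv.ext fun y => Subtype.ext rfl) hx
      have i : (x : G) ∈ X ⊓ (A.map ψ).comap ψ := mem_inf.2 ⟨x.2, by rw [mem_comap, e]; exact a.2⟩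
      rw [h4] at i
      exact Subtype.ext (by rw [← e, mem_bot.1 i, map_one]; rfl))
  obtain ⟨α, hα⟩ := h5.exists_generator
  have h6 : MonoidHom.FixedPointFree (α : MulAut X) := fun x hx => by
    have i : (x : G) ∈ X ⊓ 𝐂(A) := ⟨x.2, fun a ha => by
      obtain ⟨k, hk⟩ := mem_powers_iff_mem_zpowers.2 (hα ⟨ψ a, mem_map_of_mem ψ ha⟩)
      have j : ((α : MulAut X) ^ k) x = x :=
        pow_mem (S := MulAction.stabilizer (MulAut X) x) (MulAction.mem_stabilizer_iff.2 hx) k
      rw [show (α : MulAut X) ^ k = ψ a from congrArg Subtype.val hk] at j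
      exact mul_inv_eq_iff_eq_mul.1 (congrArg Subtype.val j)⟩
    rw [h] at i
    exact Subtype.ext i
  obtain ⟨c, hc⟩ := isConj_iff.1 (h3 α)
  obtain ⟨g, hg⟩ := h6.commutatorMap_surjective c⁻¹
  refine h2 (conj_eq_one_iff.1 (h6 (g⁻¹ * t * g⁻¹⁻¹) ?_))
  rw [MonoidHom.commutatorMap_apply] at hg
  rw [map_mul, map_mul, ← hc, ← inv_inv c, ← hg]
  simp [div_eq_mul_inv, mul_assoc]

end

theorem solvable_of_fpf (hS : ∀ (X : Type u) [Group X] [Finite X] [IsSimpleGroup X], ¬ IsMulCommutative X →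
    ¬ Involves S₃ X → CO X) (n : ℕ) : ∀ (G : Type u) [Group G] [Finite G] (X A : Subgroup G) [X.Normal],
    Nat.card X = n → X ⊓ 𝐂(A) = ⊥ → (∀ (p : ℕ) [Fact p.Prime], p ∣ Nat.card X → PNil p A) → ¬ Involves S₃ X →
      Group.IsSolvable X := by
  induction n using Nat.strong_induction_on with
  | _ n ih =>
  rintro G _ _ X A _ rfl h hA h3
  by_cases hF : fittingSubgroup X = ⊥
  · rcases subsingleton_or_nontrivial X with h0 | h0
    · infer_instance
    obtain ⟨L₀, hL₀⟩ := Layer.exists_component_of_layer_ne_bot (G := X) fun e =>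
      not_subsingleton X (Layer.fstar_eq_bot_iff.1 ((Layer.fstar_eq_layer hF).trans e))
    have hL := (Layer.isComponent_map_subtype_iff (Normal.isSubnormal ‹_›) L₀).2 hL₀
    have hLX : L₀.map X.subtype ≤ X := map_subtype_le _
    have hZ : L₀.map X.subtype ⊓ 𝐂(L₀.map X.subtype) = ⊥ := by
      rw [← Bk.map_inf_cent' X.subtype_injective, le_bot_iff.1 ((Layer.inf_centralizer_le_fit hL₀.1).trans hF.le),
        Subgroup.map_bot]
    generalize L₀.map X.subtype = L at hL hLX hZ
    have hs := Layer.IsQuasisimple.isSimpleGroup (Layer.IsComponent.quasisimple hL) ((map_eq_bot_iff_of_injective _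
      L.subtype_injective).1 ((Core.map_subtype_center L).trans hZ))
    have hc : ¬ IsMulCommutative L := fun e => Layer.IsComponent.ne_bot hL
      ((inf_eq_left.2 (isMulCommutative_iff_le_cent.1 e)).symm.trans hZ)
    by_cases e : L = X
    · subst e
      exact absurd (hS L hc h3) (not_co hc h hA)
    have := normal_in_normalizer (H := L)
    have e1 := subgroupOfEquivOfLe (le_normalizer (H := L))
    have h4 := ih _ ((Nat.card_congr e1.toEquiv).trans_lt (Core.card_lt_of_lt (hLX.lt_of_ne e))) 𝐍(L)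
      (L.subgroupOf _) (A.subgroupOf _) rfl (eq_bot_iff.2 fun l hl => by
        obtain ⟨c, i1, i2⟩ := Layer.IsComponent.exists_mul_mem_centralizer (A := A) hL hl.1 fun a ha hn =>
          mul_inv_eq_iff_eq_mul.2 (congrArg Subtype.val (hl.2 ⟨a, hn⟩ ha))
        have i3 : (l : G) * c ∈ X ⊓ 𝐂(A) := ⟨mul_mem (hLX hl.1) (sSup_le (a := X) (by
          rintro _ ⟨⟨a, -, rfl⟩, -⟩
          exact (map_mono hLX).trans (Normal.map_conj_eq X a).le) i1), i2⟩
        rw [h] at i3
        have i4 : (l : G) ∈ L ⊓ 𝐂(L) := mem_inf.2 ⟨hl.1, eq_inv_of_mul_eq_one_left i3 ▸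
          inv_mem (Layer.IsComponent.sSup_other_le_centralizer hL i1)⟩
        rw [hZ] at i4
        exact Subtype.ext i4)
      (fun p _ hp => (pnil_map_iff_of_injective (subtype_injective _)).1 ((hA p (hp.trans
        ((Nat.card_congr e1.toEquiv).dvd.trans (card_dvd_of_le hLX)))).mono (map_comap_le _ _)))
      fun i => h3 (involves_of_le ((involves_congr_right e1).1 i) hLX)
    exact absurd (solvable_of_surjective (f := e1.toMonoidHom) e1.surjective) (Small.not_isSolvable_of_simple hc)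
  · obtain ⟨p, hp, h1⟩ := exists_pCore_ne_bot_of_fitting_ne_bot hF
    have := Fact.mk hp
    have h2 : pCoreOf p X ≠ ⊥ := fun e => h1 ((map_eq_bot_iff_of_injective _ X.subtype_injective).1 e)
    have hN : (pCoreOf p X).Normal := normal_of_top_le_normalizer
      ((le_normalizer_of_normal' (N := X)).trans (norm_le_norm_op X))
    have h4 := op_isPGroup (p := p) X
    have h5 := op_le (p := p) X
    generalize pCoreOf p X = N at h2 hN h4 h5
    have h6 : p ∣ Nat.card X := (h4.card_eq_or_dvd.resolve_left fun e => h2 (card_eq_one.1 e)).trans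
      (card_dvd_of_le h5)
    have hk := QuotientGroup.ker_mk' N
    have := ‹X.Normal›.map _ (QuotientGroup.mk'_surjective N)
    have h7 := ih _ (by
      rw [← card_map_mk'_mul N X, inf_eq_left.2 h5]
      exact lt_mul_of_one_lt_right Nat.card_pos ((one_lt_card_iff_ne_bot N).2 h2)) (G ⧸ N)
      (X.map (QuotientGroup.mk' N)) (A.map (QuotientGroup.mk' N)) rfl
      (fix_map _ (hk.symm ▸ h4) (hA p h6) le_normalizer_of_normal' (hk.le.trans h5) h)
      (fun q _ hq => (hA q (hq.trans (card_map_dvd _ _))).map _) fun i => h3 (involves_trans i (involves_map _ _))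
    have : Group.IsSolvable ((QuotientGroup.mk' N).ker ⊓ X :) := by
      rw [hk, inf_eq_left.2 h5]; exact Coprime.isSolvable_of_isPGroup h4
    exact isSolvable_of_map_of_inf_ker (QuotientGroup.mk' N) X

theorem s4041 (hG : Coprime.Gsm.{u}) (hJ : JRS.{u}) {G : Type u} {A : Type*} [Group G] [Finite G] [Group A] [Finite A]
    (φ : A →* MulAut G) (hfpf : ∀ g : G, (∀ a : A, φ a g = g) → g = 1) (hS3 : ¬ Involves S₃ G)
    (hHall : ∃ H : Subgroup A, IsPiHall {r : ℕ | r.Prime ∧ r ∣ Nat.card G} H ∧ Group.IsNilpotent H)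
    (hcomp : ∃ K : Subgroup A, K.Normal ∧ (∀ r : ℕ, r.Prime → r ∣ Nat.card K → ¬ r ∣ Nat.card G) ∧
      ∀ r : ℕ, r.Prime → r ∣ K.index → r ∣ Nat.card G) : Group.IsSolvable G := by
  obtain ⟨H, h1, h2⟩ := hHall
  obtain ⟨K, _, h3, h4⟩ := hcomp
  have h5 : H.map (QuotientGroup.mk' K) = ⊤ := by
    rw [← index_eq_one, ← Nat.coprime_self]
    refine Nat.coprime_of_dvd fun r hr a b => h1.2 r hr ⟨hr, h4 r hr (a.trans ?_)⟩ (b.trans ?_)
    · exact index_dvd_card _
    · exact index_map_dvd _ (QuotientGroup.mk'_surjective K)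
  have h6 : Group.IsNilpotent (A ⧸ K) := nilpotent_of_surjective ((QuotientGroup.mk' K).comp H.subtype)
    (MonoidHom.range_eq_top.1 (by rw [MonoidHom.range_comp, range_subtype, h5]))
  have := Coprime.finite_semidirect φ.range.subtype
  have a := Coprime.isAmbient_semidirect φ.range.subtype
  have e := MonoidHom.ofInjective a.inj_i
  have : (SemidirectProduct.inl : G →* G ⋊[φ.range.subtype] φ.range).range.Normal :=
    by rw [SemidirectProduct.range_inl_eq_ker_rightHom]; infer_instance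
  have h7 : ∀ (p : ℕ) [Fact p.Prime], p ∣ Nat.card G → PNil p (⊤ : Subgroup φ.range) := fun p _ hp =>
    hasNormalPComplement_iff_top.1 (hasNormalPComplement_of_surjective (hasNormalPComplement_of_quotient K
      (fun i => h3 p Fact.out i hp) hasNormalPComplement_of_isNilpotent) _ φ.rangeRestrict_surjective)
  have := solvable_of_fpf (fun X _ _ _ b c => co_of_suz (Small.not_isSolvable_of_simple b) (suz_of_not_S3 hG hJ b c))
    _ (G ⋊[φ.range.subtype] φ.range) (SemidirectProduct.inl (φ := φ.range.subtype)).range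
    ((⊤ : Subgroup φ.range).map SemidirectProduct.inr) rfl (eq_bot_iff.2 (by
      rintro _ ⟨⟨g, rfl⟩, hg⟩
      rw [hfpf g fun b => a.mem_centralizer_iff.1 hg ⟨_, b, rfl⟩ trivial, map_one]; exact one_mem _))
    (fun p _ hp => (h7 p (hp.trans (Nat.card_congr e.toEquiv).symm.dvd)).map _)
    fun i => hS3 ((involves_congr_right e).2 i)
  exact solvable_of_surjective (f := e.symm.toMonoidHom) e.symm.surjective

theorem s5109 (h : Glaub.KS3.{u}) {Ω : Type u} [Group Ω] {S : Subgroup Ω} [Finite S] (F : FusionSystem S)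
    (hF : Fus.Sat 2 F) (h3 : ∀ U : Subgroup Ω, U ≤ S → ¬ Involves S₃ ↥(F.autGroup U)) : F.IsConstrained 2 := by
  refine Glaub.constrained_of_solvable hF (h.solvable hF fun Q a b N c L _ ι d e => ?_)
  have := d.1
  have i1 := isNormal_normalizerSystem c
  obtain ⟨π, i2⟩ := exists_preModel d i1 (fun x hx => centralizerIn_le_of_isCentric b ⟨hx.1.1, hx.2⟩)
  refine h3 Q b.1 (autGroup_normalizerSystem c b.1 ▸ involves_of_ker (involves_S3_of_S4 (Glaub.involves_qd2_iff.1 e)) π
    fun M hM i3 => ?_)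
  obtain ⟨n, hn⟩ := ((((hF.pg.to_le (b.1)).of_equiv (subgroupOfEquivOfLe i1.1).symm).map ι).to_le
    (i2.ker_le i1.1)).exists_card_eq
  have i4 := IsPGroup.of_card_dvd_pow (hn ▸ card_dvd_of_involves i3)
  refine eq_bot_iff.2 fun x hx => by_contra fun i5 => ?_
  obtain ⟨y, i6, i7⟩ := (by decide +kernel : ∀ x : S₃, x ≠ 1 → ∃ y : S₃, ⁅y, x⁆ ≠ 1 ∧ ⁅y, x⁆ ^ 3 = 1) x i5
  obtain ⟨k, hk⟩ := isPGroup_iff_mem.1 i4 _ (mul_mem (hM.conj_mem x hx y) (inv_mem hx))
  exact i6 ((pow_eq_one_iff_of_coprime (Nat.Coprime.pow_left k (by decide))).1 ⟨hk, i7⟩)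

end Cfsg.Lib.SF
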